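import Cfsg.Agent.Lib.SchmidtUniversal.Model
import Cfsg.Agent.Lib.Solvable.Schmidt

/-!
# Cyclic extensions of twists are minimal non-`p`-nilpotent groups
-/

namespace Cfsg.Agent.SchmidtUniversal

open scoped commutatorElement

universe u v w

variable {K : Type u} [Field K]

/-- The extension of a twist by a cyclic group of order `q ^ r`. -/
structure Ext {ζ : K} {A : Type v} [Group A] (D : Twist ζ A) (q r : ℕ) (G : Type w) [Group G] where
  i : A →* G
  g : G
  inj : Function.Injective i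
  conj : ∀ x, g * i x * g⁻¹ = i (D.σ x)
  top : i.range ⊔ Subgroup.zpowers g = ⊤
  ord : orderOf g = q ^ r

theorem isNilpotent_sup_of_commute {G : Type w} [Group G] {H L : Subgroup G} [Group.IsNilpotent H]
    [Group.IsNilpotent L] (hc : ∀ a ∈ H, ∀ b ∈ L, Commute a b) :
    Group.IsNilpotent ↥(H ⊔ L) := by
  let f : H × L →* G := MonoidHom.noncommCoprod H.subtype L.subtype fun a b => hc a a.2 b b.2
  have e : f.range = H ⊔ L := by
    refine le_antisymm ?_ (sup_le (fun x hx => ⟨(⟨x, hx⟩, 1), mul_one x⟩) fun x hx => ⟨(1, ⟨x, hx⟩), one_mul x⟩)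
    rintro _ ⟨⟨x, y⟩, rfl⟩
    exact Subgroup.mul_mem_sup x.2 y.2
  rw [← e]
  exact Group.nilpotent_of_surjective f.rangeRestrict f.rangeRestrict_surjective

theorem isNilpotent_of_subgroup_le {G : Type w} [Group G] {H L : Subgroup G} (hle : H ≤ L)
    [Group.IsNilpotent L] : Group.IsNilpotent H :=
  Group.nilpotent_of_mulEquiv (Subgroup.subgroupOfEquivOfLe hle)

namespace Ext

variable {p q a r : ℕ} {ζ : K} (h : Setting p q a ζ) {A : Type v} [Group A] {D : Twist ζ A}
  {G : Type w} [Group G] (E : Ext D q r G)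

theorem range_normal : E.i.range.Normal := by
  rw [← Subgroup.normalizer_eq_top_iff, eq_top_iff, ← E.top, sup_le_iff]
  refine ⟨Subgroup.le_normalizer, ?_⟩
  rw [Subgroup.zpowers_le, Subgroup.mem_normalizer_iff]
  intro x
  constructor
  · rintro ⟨y, rfl⟩
    exact ⟨D.σ y, (E.conj y).symm⟩
  · rintro ⟨y, hy⟩
    refine ⟨D.σ.symm y, ?_⟩
    have := E.conj (D.σ.symm y)
    rw [MulEquiv.apply_symm_apply, hy] at this
    exact mul_left_cancel (mul_right_cancel this)

theorem exists_decomp (x : G) : ∃ (b : A) (j : ℤ), x = E.i b * E.g ^ j := by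
  have := E.range_normal
  obtain ⟨_, ⟨b, rfl⟩, _, ⟨j, rfl⟩, rfl⟩ := Subgroup.mem_sup_of_normal_left.mp (E.top ▸ Subgroup.mem_top x)
  exact ⟨b, j, rfl⟩

theorem conj_pow (k : ℕ) (x : A) : E.g ^ k * E.i x * (E.g ^ k)⁻¹ = E.i ((D.σ ^ k) x) := by
  induction k with
  | zero => simp
  | succ k ih =>
    rw [pow_succ' (D.σ), MulAut.mul_apply, ← E.conj, ← ih, pow_succ']
    group

include h E

theorem commute_g_q (x : A) : Commute (E.g ^ q) (E.i x) := by
  have := E.conj_pow q x
  rw [D.σ_pow_eq_one (h.order ▸ pow_orderOf_eq_one ζ), MulAut.one_apply] at this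
  exact mul_inv_eq_iff_eq_mul.mp this

theorem isComplement (hA : IsPGroup p A) :
    E.i.range.IsComplement' (Subgroup.zpowers E.g) := by
  have := E.range_normal
  have : Fact p.Prime := ⟨h.hp⟩
  have : Fact q.Prime := ⟨h.hq⟩
  refine Subgroup.isComplement'_of_disjoint_and_mul_eq_univ ?_ ?_
  · exact IsPGroup.disjoint_of_ne p q h.hpq _ _ (hA.of_surjective E.i.rangeRestrict E.i.rangeRestrict_surjective)
      (IsPGroup.of_card (n := r) (by rw [Nat.card_zpowers, E.ord]))
  · rw [← Subgroup.normal_mul, E.top]; rfl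

theorem card_eq (hA : IsPGroup p A) : Nat.card G = Nat.card A * q ^ r := by
  have e : Nat.card E.i.range = Nat.card A := Nat.card_congr (MonoidHom.ofInjective E.inj).toEquiv.symm
  rw [← (E.isComplement h hA).card_mul, Nat.card_zpowers, E.ord, e]

theorem not_hasNormalPComplement [Finite G] (hA : IsPGroup p A) :
    ¬ Cfsg.HasNormalPComplement p G := by
  intro hN
  have : Fact p.Prime := ⟨h.hp⟩
  refine D.σ_ne_one h.zeta_ne_one (MulEquiv.ext fun x => E.inj ?_)
  rw [MulAut.one_apply, ← E.conj]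
  have hg : E.g ∈ Cfsg.pResidual p G := Transfer.mem_residual_of_coprime
    (by rw [E.ord]; exact ((Nat.coprime_primes h.hq h.hp).mpr h.hpq.symm).pow_left r)
  have h1 : E.i x * E.g * (E.i x)⁻¹ * E.g⁻¹ ∈ Cfsg.pResidual p G :=
    mul_mem ((Transfer.pResidual_normal p).conj_mem _ hg _) (inv_mem hg)
  have h2 : E.i x * E.g * (E.i x)⁻¹ * E.g⁻¹ ∈ E.i.range := by
    rw [mul_assoc (E.i x), mul_assoc (E.i x), ← map_inv E.i, E.conj, ← map_mul]
    exact ⟨_, rfl⟩
  have h3 := (Transfer.mem_pResidual_iff hN _).mp h1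
  obtain ⟨y, hy⟩ := h2
  obtain ⟨k, hk⟩ := hA y
  have h4 : E.i x * E.g * (E.i x)⁻¹ * E.g⁻¹ = 1 :=
    orderOf_eq_one_iff.mp (Nat.eq_one_of_dvd_coprimes (h3.pow_right k) dvd_rfl
      (orderOf_dvd_of_pow_eq_one (by rw [← hy, ← map_pow, hk, map_one])))
  have h5 := mul_inv_eq_one.mp h4
  have h6 := mul_inv_eq_iff_eq_mul.mp h5
  rw [← h6]; group

theorem proper_hasNormalPComplement [Finite G] (hA : IsPGroup p A) (L : Subgroup G) (hL : L ≠ ⊤) :
    Cfsg.HasNormalPComplement p L := by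
  have : Fact p.Prime := ⟨h.hp⟩
  have : Fact q.Prime := ⟨h.hq⟩
  have := E.range_normal
  have hrp : IsPGroup p E.i.range := hA.of_surjective E.i.rangeRestrict E.i.rangeRestrict_surjective
  suffices Group.IsNilpotent L from Solvable.hasNormalPComplement_of_isNilpotent p
  have : Group.IsNilpotent E.i.range := hrp.isNilpotent
  let _ : CommGroup (Subgroup.zpowers (E.g ^ q)) := IsCyclic.commGroup
  let _ : CommGroup (Subgroup.zpowers E.g) := IsCyclic.commGroup
  have hMn : Group.IsNilpotent ↥(E.i.range ⊔ Subgroup.zpowers (E.g ^ q)) :=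
    isNilpotent_sup_of_commute fun y hy z hz => by
      obtain ⟨y, rfl⟩ := hy
      obtain ⟨j, rfl⟩ := hz
      exact ((E.commute_g_q h y).zpow_left j).symm
  by_cases hLM : L ≤ E.i.range ⊔ Subgroup.zpowers (E.g ^ q)
  · exact isNilpotent_of_subgroup_le hLM
  obtain ⟨k, hkL, hkM⟩ := SetLike.not_le_iff_exists.mp hLM
  obtain ⟨b, j, rfl⟩ := E.exists_decomp k
  have hj : ¬ (q : ℤ) ∣ j := by
    rintro ⟨c, rfl⟩
    refine hkM (mul_mem (Subgroup.mem_sup_left ⟨b, rfl⟩) (Subgroup.mem_sup_right ⟨c, ?_⟩))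
    show (E.g ^ q) ^ c = E.g ^ ((q : ℤ) * c)
    rw [zpow_mul, zpow_natCast]
  -- `L` contains a conjugate of `zpowers g`
  have hdvd : q ^ r ∣ Nat.card L := by
    have h1 : orderOf (QuotientGroup.mk' E.i.range (E.i b * E.g ^ j)) = q ^ r := by
      have hb : QuotientGroup.mk' E.i.range (E.i b) = 1 :=
        (QuotientGroup.eq_one_iff _).mpr ⟨b, rfl⟩
      rw [map_mul, hb, one_mul, map_zpow]
      have hg : orderOf (QuotientGroup.mk' E.i.range E.g) = q ^ r := by
        refine (orderOf_injective ((QuotientGroup.mk' E.i.range).comp (Subgroup.zpowers E.g).subtype) ?_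
          ⟨E.g, Subgroup.mem_zpowers _⟩).trans (by rw [← Subgroup.orderOf_coe, E.ord])
        refine (injective_iff_map_eq_one _).mpr fun z hz => Subtype.ext ?_
        exact Subgroup.disjoint_def.mp (E.isComplement h hA).disjoint
          ((QuotientGroup.eq_one_iff _).mp hz) z.2
      obtain ⟨u, v, huv⟩ : ∃ u v : ℤ, j * u + ((q ^ r : ℕ) : ℤ) * v = 1 := by
        have hco : IsCoprime j ((q ^ r : ℕ) : ℤ) := by
          push_cast
          exact ((Nat.prime_iff_prime_int.mp h.hq).coprime_iff_not_dvd.mpr hj).symm.pow_right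
        obtain ⟨u, v, huv⟩ := hco
        exact ⟨u, v, by rw [mul_comm j, mul_comm _ v]; exact huv⟩
      refine Nat.dvd_antisymm (hg ▸ orderOf_dvd_of_mem_zpowers ⟨j, rfl⟩) ?_
      refine hg.symm.dvd.trans (orderOf_dvd_of_mem_zpowers ⟨u, ?_⟩)
      show ((QuotientGroup.mk' E.i.range E.g) ^ j) ^ u = _
      rw [← zpow_mul, show j * u = 1 - ((q ^ r : ℕ) : ℤ) * v by linarith, zpow_sub, zpow_mul,
        zpow_natCast, ← hg, pow_orderOf_eq_one, one_zpow, zpow_one, inv_one, mul_one]
    exact h1 ▸ (orderOf_map_dvd _ _).trans (Subgroup.orderOf_dvd_natCard L hkL)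
  obtain ⟨Q', hQ'⟩ := Sylow.exists_subgroup_card_pow_prime q hdvd
  obtain ⟨m, hm⟩ := hrp.exists_card_eq
  have hfac : Nat.card G = p ^ m * q ^ r := by
    rw [← (E.isComplement h hA).card_mul, Nat.card_zpowers, E.ord, hm]
  have hpart : q ^ r = q ^ (Nat.card G).factorization q := by
    rw [hfac, Nat.factorization_mul (pow_ne_zero _ h.hp.ne_zero) (pow_ne_zero _ h.hq.ne_zero),
      h.hp.factorization_pow, h.hq.factorization_pow]
    simp [h.hpq]
  let S₁ : Sylow q G := Sylow.ofCard (Q'.map L.subtype) (by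
    rw [Subgroup.card_map_of_injective L.subtype_injective, hQ', ← hpart])
  let S₂ : Sylow q G := Sylow.ofCard (Subgroup.zpowers E.g) (by rw [Nat.card_zpowers, E.ord, ← hpart])
  obtain ⟨c, hc⟩ := MulAction.exists_smul_eq G S₁ S₂
  set L' := L.map (MulAut.conj c).toMonoidHom with hL'
  have hgL' : E.g ∈ L' := by
    have hg : E.g ∈ ((c • S₁ : Sylow q G) : Subgroup G) := by rw [hc]; exact Subgroup.mem_zpowers _
    obtain ⟨y, hy, hye⟩ := hg
    obtain ⟨z, -, rfl⟩ := hy
    exact ⟨z, z.2, hye⟩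
  suffices Group.IsNilpotent L' from
    Group.nilpotent_of_mulEquiv (L.equivMapOfInjective (MulAut.conj c).toMonoidHom (MulAut.conj c).injective).symm
  set T := L'.comap E.i with hT
  have hTi : ∀ x ∈ T, D.σ x ∈ T := fun x hx => by
    show E.i (D.σ x) ∈ L'
    rw [← E.conj]
    exact mul_mem (mul_mem hgL' hx) (inv_mem hgL')
  let U : AddSubgroup K :=
    { carrier := {u | ∃ t ∈ T, (D.π t).toAdd = u}
      add_mem' := fun {u v} ⟨s, hs, hsu⟩ ⟨t, ht, htv⟩ => ⟨s * t, mul_mem hs ht, by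
        rw [map_mul, toAdd_mul, hsu, htv]⟩
      zero_mem' := ⟨1, one_mem _, by rw [map_one]; rfl⟩
      neg_mem' := fun {u} ⟨s, hs, hsu⟩ => ⟨s⁻¹, inv_mem hs, by rw [map_inv, toAdd_inv, hsu]⟩ }
  rcases addSubgroup_eq_bot_or_top h.generates U
      (fun u ⟨t, ht, htu⟩ => ⟨D.σ t, hTi t ht, by rw [D.equiv, htu]⟩) with hU | hU
  · have hle : L' ≤ (D.π.ker.map E.i) ⊔ Subgroup.zpowers E.g := by
      intro x hx
      obtain ⟨b', j', rfl⟩ := E.exists_decomp x
      have hb : b' ∈ T := by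
        show E.i b' ∈ L'
        simpa using mul_mem hx (inv_mem (zpow_mem hgL' j'))
      have hb0 : (D.π b').toAdd ∈ U := ⟨b', hb, rfl⟩
      rw [hU, AddSubgroup.mem_bot] at hb0
      exact mul_mem (Subgroup.mem_sup_left ⟨b', toAdd_eq_zero.mp hb0, rfl⟩)
        (Subgroup.mem_sup_right ⟨j', rfl⟩)
    have : Group.IsNilpotent ↥(D.π.ker.map E.i) :=
      isNilpotent_of_subgroup_le (L := E.i.range) (Subgroup.map_le_range _ _)
    have := isNilpotent_sup_of_commute (H := D.π.ker.map E.i) (L := Subgroup.zpowers E.g)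
      fun y hy z hz => by
        obtain ⟨n, hn, rfl⟩ := hy
        obtain ⟨j', rfl⟩ := hz
        refine (Commute.zpow_right ?_ j')
        have := E.conj n
        rw [D.fix n hn] at this
        exact (mul_inv_eq_iff_eq_mul.mp this).symm
    exact isNilpotent_of_subgroup_le hle
  · exfalso
    have hTtop : T = ⊤ := D.eq_top_of_invariant T hTi fun u => (hU ▸ AddSubgroup.mem_top u : u ∈ U)
    have : L' = ⊤ := by
      rw [eq_top_iff, ← E.top, sup_le_iff, Subgroup.zpowers_le]
      refine ⟨?_, hgL'⟩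
      rintro _ ⟨y, rfl⟩
      exact (hTtop ▸ Subgroup.mem_top y : y ∈ T)
    apply hL
    exact Subgroup.map_injective (MulAut.conj c).injective
      (this.trans (Subgroup.map_top_of_surjective _ (MulAut.conj c).surjective).symm)

end Ext

end Cfsg.Agent.SchmidtUniversal
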