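import Cfsg.Agent.Lib.SchmidtUniversal.Twist

/-!
# The order of a twist

If `ζ` has prime order `q` and `K` has `p ^ a` elements, `a` the order of `p` modulo `q`, then a
twist has at most `p ^ a` elements for odd `a` and at most `p ^ (3 * a / 2)` for even `a`.
-/

namespace Cfsg.Agent.SchmidtUniversal

open scoped commutatorElement

universe u v

variable {K : Type u} [Field K]

/-- The standing assumptions on the field. -/
structure Setting (p q a : ℕ) (ζ : K) : Prop where
  hp : p.Prime
  hq : q.Prime
  hpq : p ≠ q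
  card : Nat.card K = p ^ a
  order : orderOf ζ = q
  ha : a = orderOf (p : ZMod q)

namespace Setting

variable {p q a : ℕ} {ζ : K} (h : Setting p q a ζ)
include h

theorem finite : Finite K := Nat.finite_of_card_ne_zero (h.card ▸ pow_ne_zero _ h.hp.ne_zero)

theorem zeta_ne_one : ζ ≠ 1 := fun e => h.hq.ne_one (by rw [← h.order, e, orderOf_one])

theorem zeta_ne_zero : ζ ≠ 0 := fun e => by
  have h1 := pow_orderOf_eq_one ζ
  rw [h.order, e, zero_pow h.hq.ne_zero] at h1
  exact zero_ne_one h1

theorem charP : CharP K p := by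
  have := h.finite
  have : Fact p.Prime := ⟨h.hp⟩
  let _ := Fintype.ofFinite K
  exact charP_of_card_eq_prime_pow (f := a) (by rw [← h.card, Nat.card_eq_fintype_card])

theorem q_dvd_of_pow_eq {n : ℕ} (hn : ζ ^ n = ζ) (hn0 : n ≠ 0) : q ∣ n - 1 := by
  rw [← h.order]
  refine orderOf_dvd_of_pow_eq_one ?_
  have : ζ ^ (n - 1) * ζ = 1 * ζ := by rw [← pow_succ, Nat.sub_add_cancel (Nat.pos_of_ne_zero hn0), hn, one_mul]
  exact mul_right_cancel₀ h.zeta_ne_zero this

theorem generates : Generates ζ := by
  classical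
  have := h.finite
  have hFp : Fact p.Prime := ⟨h.hp⟩
  set S := Subring.closure ({ζ} : Set K) with hS
  let _ := Fintype.ofFinite S
  let _ : Field S := Fintype.fieldOfDomain S
  obtain ⟨k, hk, hkS⟩ : ∃ k ≤ a, Nat.card S = p ^ k := by
    have h1 := AddSubgroup.card_addSubgroup_dvd_card S.toAddSubgroup
    rw [h.card] at h1
    exact (Nat.dvd_prime_pow h.hp).mp h1
  have hz : (⟨ζ, Subring.subset_closure rfl⟩ : S) ^ Nat.card S = ⟨ζ, Subring.subset_closure rfl⟩ := by
    rw [Nat.card_eq_fintype_card]; exact FiniteField.pow_card _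
  have hdvd := h.q_dvd_of_pow_eq (congrArg Subtype.val hz) Nat.card_pos.ne'
  have hone : ((p : ZMod q) ^ k) = 1 := by
    have h2 := (ZMod.natCast_eq_zero_iff (Nat.card S - 1) q).mpr hdvd
    rw [Nat.cast_sub Nat.card_pos, sub_eq_zero, hkS] at h2
    exact_mod_cast h2
  have hak : a ∣ k := h.ha ▸ orderOf_dvd_of_pow_eq_one hone
  have hk0 : k ≠ 0 := by
    rintro rfl
    rw [pow_zero] at hkS
    have := (Nat.card_eq_one_iff_unique.mp hkS).1
    exact zero_ne_one (congrArg Subtype.val (Subsingleton.elim (0 : S) 1))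
  have hka : k = a := le_antisymm hk (Nat.le_of_dvd (Nat.pos_of_ne_zero hk0) hak)
  refine eq_top_iff.mpr fun x _ => ?_
  have htop : S.toAddSubgroup = ⊤ := AddSubgroup.eq_top_of_card_eq _ (by rw [h.card, ← hka]; exact hkS)
  show x ∈ S.toAddSubgroup
  rw [htop]; trivial

theorem a_pos : 0 < a := by
  rw [Nat.pos_iff_ne_zero]
  intro h0
  have := h.card
  rw [h0, pow_zero] at this
  exact zero_ne_one ((Nat.card_eq_one_iff_unique.mp this).1.elim (0 : K) 1)

theorem zeta_pow_half {b : ℕ} (hab : a = 2 * b) : ζ ^ p ^ b = ζ⁻¹ := by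
  have : Fact q.Prime := ⟨h.hq⟩
  have h2 : ((p : ZMod q) ^ b) * (p : ZMod q) ^ b = 1 := by
    rw [← pow_add, ← two_mul, ← hab, h.ha, pow_orderOf_eq_one]
  rcases mul_self_eq_one_iff.mp h2 with e | e
  · have := Nat.le_of_dvd (by have := h.a_pos; omega) (h.ha ▸ orderOf_dvd_of_pow_eq_one e)
    have := h.a_pos
    omega
  · have h3 : q ∣ p ^ b + 1 := by
      rw [← ZMod.natCast_eq_zero_iff]
      push_cast
      rw [e, neg_add_cancel]
    obtain ⟨c, hc⟩ := h3
    refine eq_inv_of_mul_eq_one_left ?_
    rw [← pow_succ, hc, ← h.order, pow_mul, pow_orderOf_eq_one, one_pow]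

theorem ringHom_ext {R : Type*} [Ring R] {f g : K →+* R} (hfg : f ζ = g ζ) : f = g := by
  refine RingHom.ext fun x => ?_
  have hx : x ∈ Subring.closure ({ζ} : Set K) := h.generates ▸ Subring.mem_top x
  induction hx using Subring.closure_induction with
  | mem x hx => rw [Set.mem_singleton_iff.mp hx]; exact hfg
  | zero => rw [map_zero, map_zero]
  | one => rw [map_one, map_one]
  | add x y _ _ hx hy => rw [map_add, map_add, hx, hy]
  | neg x _ hx => rw [map_neg, map_neg, hx]
  | mul x y _ _ hx hy => rw [map_mul, map_mul, hx, hy]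

/-- An involutory automorphism inverting `ζ` forces `a` to be even, unless `q = 2`. -/
theorem even_of_inverting (τ : K →+* K) (hτ : τ ζ = ζ⁻¹) : Even a ∨ q = 2 := by
  have := h.finite
  have := h.charP
  have : Fact p.Prime := ⟨h.hp⟩
  let _ := ZMod.algebra K p
  by_cases hid : ζ⁻¹ = ζ
  · right
    have h2 : ζ ^ 2 = 1 := by
      rw [pow_two]; nth_rw 1 [← hid]; exact inv_mul_cancel₀ h.zeta_ne_zero
    exact (Nat.prime_dvd_prime_iff_eq h.hq Nat.prime_two).mp (h.order ▸ orderOf_dvd_of_pow_eq_one h2)
  · left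
    let e : K ≃ₐ[ZMod p] K :=
      AlgEquiv.ofBijective (⟨τ, fun c => congrArg (fun f : ZMod p →+* K => f c)
        (Subsingleton.elim (τ.comp (algebraMap (ZMod p) K)) (algebraMap (ZMod p) K))⟩ : K →ₐ[ZMod p] K)
        (Finite.injective_iff_bijective.mp τ.injective)
    have he : ∀ x, e x = τ x := fun x => rfl
    have hee : τ.comp τ = RingHom.id K := h.ringHom_ext (by simp [hτ, map_inv₀])
    have ho : orderOf e = 2 := by
      refine orderOf_eq_prime ?_ ?_
      · refine AlgEquiv.ext fun x => ?_
        exact congrArg (fun f : K →+* K => f x) hee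
      · intro e1
        have := congrArg (fun f : K ≃ₐ[ZMod p] K => f ζ) e1
        exact hid (by rw [← hτ]; exact this)
    have hcard : Nat.card (K ≃ₐ[ZMod p] K) = a := by
      rw [IsGalois.card_aut_eq_finrank]
      have h1 := Module.natCard_eq_pow_finrank (K := ZMod p) (V := K)
      rw [h.card, Nat.card_zmod] at h1
      exact (Nat.pow_right_injective h.hp.two_le h1).symm
    exact even_iff_two_dvd.mpr (ho ▸ hcard ▸ orderOf_dvd_natCard e)

variable {A : Type v} [Group A] [Finite A] (D : Twist ζ A)

theorem form_cases : (∀ u w, D.form u w = 1) ∨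
    ∃ τ : K →+* K, τ ζ = ζ⁻¹ ∧ ∀ w u x, D.form (w * u) x = D.form u (τ w * x) := by
  let f : D.adj →+* K := (RingHom.fst K K).comp D.adj.subtype
  by_cases hinj : Function.Injective f
  · right
    have hsurj : Function.Surjective f := by
      refine RingHom.range_eq_top.mp (top_le_iff.mp ?_)
      rw [← h.generates, Subring.closure_le, Set.singleton_subset_iff]
      exact ⟨⟨_, D.zeta_mem_adj h.zeta_ne_zero⟩, rfl⟩
    let e := RingEquiv.ofBijective f ⟨hinj, hsurj⟩
    refine ⟨((RingHom.snd K K).comp D.adj.subtype).comp e.symm.toRingHom, ?_, fun w u x => ?_⟩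
    · have : e.symm ζ = ⟨_, D.zeta_mem_adj h.zeta_ne_zero⟩ := e.symm_apply_eq.mpr rfl
      show ((e.symm ζ : D.adj) : K × K).2 = ζ⁻¹
      rw [this]
    · have h1 := (e.symm w).2 u x
      have h2 : ((e.symm w : D.adj) : K × K).1 = w := e.apply_symm_apply w
      rw [h2] at h1
      exact h1
  · left
    rw [injective_iff_map_eq_zero] at hinj
    push Not at hinj
    obtain ⟨⟨⟨w₁, w₂⟩, hw⟩, h1, h2⟩ := hinj
    simp only [f, RingHom.comp_apply, Subring.subtype_apply, RingHom.coe_fst] at h1
    subst h1
    exact D.form_eq_one_of_adj (fun e => h2 (Subtype.ext (Prod.ext rfl e))) hw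

include D in
theorem card_le :
    Nat.card A ≤ p ^ (if a % 2 = 1 then a else 3 * a / 2) := by
  have := h.finite
  have := h.charP
  have : Fact p.Prime := ⟨h.hp⟩
  have htriv : (∀ u w, D.form u w = 1) → Nat.card A ≤ p ^ (if a % 2 = 1 then a else 3 * a / 2) := by
    intro hf
    rw [D.card_eq, D.ker_eq_bot_of_form_eq_one hf, Subgroup.card_bot, mul_one, h.card]
    refine Nat.pow_le_pow_right h.hp.pos ?_
    split_ifs <;> omega
  rcases h.form_cases D with hf | ⟨τ, hτ, hadj⟩
  · exact htriv hf
  -- the form is determined by `fun w => D.form 1 w`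
  have hψ : ∀ u w, D.form u w = D.form 1 (τ u * w) := fun u w => by rw [← hadj, mul_one]
  rcases h.even_of_inverting τ hτ with heven | hq2
  swap
  · refine htriv fun u w => ?_
    rw [hψ]
    have hint : ∀ z : K, D.form 1 z = 1 := by
      intro z
      have hz : z ∈ Subring.closure ({ζ} : Set K) := h.generates ▸ Subring.mem_top z
      have hle : Subring.closure ({ζ} : Set K) ≤ (Int.castRingHom K).range := by
        rw [Subring.closure_le, Set.singleton_subset_iff]
        refine ⟨-1, ?_⟩
        have h2 : ζ ^ 2 = 1 := by rw [← hq2, ← h.order, pow_orderOf_eq_one]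
        rcases mul_self_eq_one_iff.mp (by rwa [pow_two] at h2) with e | e
        · exact absurd e h.zeta_ne_one
        · simp [e]
      obtain ⟨n, rfl⟩ := hle hz
      clear hz
      show D.form 1 (n : K) = 1
      induction n using Int.induction_on with
      | zero => simp [D.form_zero_right]
      | succ n ih => push_cast at ih ⊢; rw [D.form_add_right, ih, D.form_self, one_mul]
      | pred n ih => push_cast at ih ⊢; rw [sub_eq_add_neg, D.form_add_right, ih, D.form_neg_right, D.form_self, inv_one, one_mul]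
    exact hint _
  obtain ⟨b, hb⟩ := heven
  have hb2 : a = 2 * b := by omega
  have hodd : ¬ a % 2 = 1 := by omega
  rw [if_neg hodd]
  have hτfrob : τ = iterateFrobenius K p b := h.ringHom_ext (by
    rw [hτ, iterateFrobenius_def, h.zeta_pow_half hb2])
  let ψ : Multiplicative K →* A :=
    { toFun := fun z => D.form 1 z.toAdd
      map_one' := D.form_zero_right 1
      map_mul' := fun x y => D.form_add_right 1 _ _ }
  have hker : D.π.ker ≤ ψ.range := by
    refine D.ker_le_commutator.trans ?_
    rw [commutator_def, Subgroup.commutator_le]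
    intro x _ y _
    exact ⟨Multiplicative.ofAdd (τ (D.π x).toAdd * (D.π y).toAdd), (by rw [D.form_eq, hψ]; rfl)⟩
  -- norms lie in the kernel of `ψ`
  let N : Kˣ →* Kˣ := powMonoidHom (p ^ b + 1)
  let g : Option N.range → ψ.ker := fun o =>
    match o with
    | none => ⟨1, one_mem _⟩
    | some z => ⟨Multiplicative.ofAdd ((z : Kˣ) : K), by
        obtain ⟨z, v, rfl⟩ := z
        show D.form 1 ((v ^ (p ^ b + 1) : Kˣ) : K) = 1
        have := hψ (v : K) (v : K)
        rw [D.form_self, hτfrob, iterateFrobenius_def, ← pow_succ] at this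
        rw [Units.val_pow_eq_pow_val]; exact this.symm⟩
  have hginj : Function.Injective g := by
    rintro (_ | z) (_ | z') hz
    · rfl
    · exact absurd (congrArg (fun w : ψ.ker => (w : Multiplicative K).toAdd) hz).symm (Units.ne_zero _)
    · exact absurd (congrArg (fun w : ψ.ker => (w : Multiplicative K).toAdd) hz) (Units.ne_zero _)
    · exact congrArg some (Subtype.ext (Units.ext
        (congrArg (fun w : ψ.ker => (w : Multiplicative K).toAdd) hz)))
  have h1 := Nat.card_le_card_of_injective g hginj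
  rw [Finite.card_option] at h1
  have h2 : Nat.card N.ker ≤ p ^ b + 1 := by
    let _ := Fintype.ofFinite K
    have e : N.ker = rootsOfUnity (p ^ b + 1) K := by
      ext x; simp [N, mem_rootsOfUnity]
    rw [e]
    exact card_rootsOfUnity K (p ^ b + 1)
  have h3 : Nat.card N.range * Nat.card N.ker = Nat.card Kˣ := by
    rw [← Subgroup.index_ker, mul_comm]; exact N.ker.card_mul_index
  have h4 : p ^ b ≤ Nat.card ψ.ker := by
    refine le_trans ?_ h1
    rw [Nat.card_units, h.card, hb2] at h3
    have h5 : p ^ (2 * b) - 1 ≤ Nat.card N.range * (p ^ b + 1) := h3 ▸ Nat.mul_le_mul_left _ h2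
    have h6 : p ^ (2 * b) = p ^ b * p ^ b := by rw [two_mul, pow_add]
    have h7 : p ^ (2 * b) ≤ Nat.card N.range * (p ^ b + 1) + 1 := by omega
    rw [h6] at h7
    by_contra hlt
    have h8 : Nat.card N.range + 2 ≤ p ^ b := by omega
    nlinarith
  have h5 : Nat.card ψ.range * p ^ b ≤ p ^ a := by
    have e : Nat.card ψ.range * Nat.card ψ.ker = p ^ a := by
      rw [← Subgroup.index_ker, mul_comm, ψ.ker.card_mul_index]
      exact h.card
    exact e ▸ Nat.mul_le_mul_left _ h4
  have h6 : Nat.card D.π.ker ≤ p ^ b := by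
    refine (Subgroup.card_le_of_le hker).trans (Nat.le_of_mul_le_mul_right ?_ (pow_pos h.hp.pos b))
    rw [← pow_add, ← two_mul, ← hb2]; exact h5
  rw [D.card_eq, h.card, show 3 * a / 2 = a + b by omega, pow_add]
  exact Nat.mul_le_mul_left _ h6

end Setting

end Cfsg.Agent.SchmidtUniversal
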