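import Cfsg.Agent.Lib.SchmidtUniversal.Ext
import Cfsg.Agent.Lib.PGroup.Frattini
import Cfsg.Agent.Lib.Coprime.Basic

/-!
# Minimal non-`p`-nilpotent groups of order `p ^ t * q ^ r` are extensions of twists
-/

namespace Cfsg.Agent.SchmidtUniversal

open scoped commutatorElement
open Polynomial

universe u v

variable {p q a r : ℕ}

/-- A nonzero irreducible operator of order `q` is multiplication by a primitive root of unity. -/
theorem exists_field_structure {K : Type u} [Field K] [Finite K] [Fact p.Prime] [Algebra (ZMod p) K]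
    {ζ : K} (hgen : Generates ζ) (hζ : IsPrimitiveRoot ζ q) (hq : q.Prime)
    {V : Type v} [AddCommGroup V] [Module (ZMod p) V] [Finite V] [Nontrivial V]
    (T : Module.End (ZMod p) V) (hT : T ^ q = 1) (hT1 : T ≠ 1)
    (hirr : ∀ U : Submodule (ZMod p) V, (∀ x ∈ U, T x ∈ U) → U = ⊥ ∨ U = ⊤) :
    ∃ (j : ℕ) (e : K ≃+ V), Nat.Coprime j q ∧ ∀ u, e (ζ * u) = (T ^ j) (e u) := by
  have hint : IsIntegral (ZMod p) T := Algebra.IsIntegral.isIntegral T
  set μ := minpoly (ZMod p) T with hμ
  have hdvd : μ ∣ X ^ q - 1 := minpoly.dvd _ _ (by simp [hT])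
  have hmon : μ.Monic := minpoly.monic hint
  have hirred : Irreducible μ := by
    refine ⟨minpoly.not_isUnit _ _, fun f g hfg => ?_⟩
    have hzero : (aeval T f) * (aeval T g) = 0 := by
      rw [← map_mul, ← hfg, minpoly.aeval]
    have hf0 : f ≠ 0 := fun e => hmon.ne_zero (by rw [hfg, e, zero_mul])
    have hg0 : g ≠ 0 := fun e => hmon.ne_zero (by rw [hfg, e, mul_zero])
    have hdeg : μ.natDegree = f.natDegree + g.natDegree := by rw [hfg, natDegree_mul hf0 hg0]
    have hkey : ∀ f g : (ZMod p)[X], f ≠ 0 → aeval T f = 0 → μ.natDegree = f.natDegree + g.natDegree →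
        g ≠ 0 → IsUnit g := by
      intro f g hf0 hf hd hg0
      have := natDegree_le_of_dvd (minpoly.dvd _ _ hf) hf0
      rw [← hμ] at this
      exact isUnit_iff_degree_eq_zero.mpr (by rw [degree_eq_natDegree hg0, show g.natDegree = 0 by omega]; rfl)
    rcases hirr (LinearMap.ker (aeval T g)) (fun x hx => by
        rw [LinearMap.mem_ker] at hx ⊢
        have hc : aeval T g * T = T * aeval T g := by
          simpa using congrArg (aeval T) (mul_comm g X)
        rw [← Module.End.mul_apply, hc, Module.End.mul_apply, hx, map_zero]) with hk | hk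
    · -- `aeval T g` is injective, hence bijective, hence `aeval T f = 0`
      right
      refine hkey f g hf0 ?_ hdeg hg0
      have hinj : Function.Injective (aeval T g) := LinearMap.ker_eq_bot.mp hk
      refine LinearMap.ext fun x => ?_
      obtain ⟨y, rfl⟩ := Finite.surjective_of_injective hinj x
      exact LinearMap.congr_fun hzero y
    · left
      refine hkey g f hg0 (LinearMap.ker_eq_top.mp hk) ?_ hf0
      omega
  have : Fact (Irreducible μ) := ⟨hirred⟩
  have hq0 : 0 < q := hq.pos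
  have hdeg0 : μ.natDegree ≠ 0 := (minpoly.natDegree_pos hint).ne'
  obtain ⟨η, hη⟩ : ∃ η : K, aeval η μ = 0 := by
    have hspl : ((X ^ q - 1 : (ZMod p)[X]).map (algebraMap (ZMod p) K)).Splits := by
      rw [Polynomial.map_sub, Polynomial.map_pow, map_X, Polynomial.map_one]
      exact X_pow_sub_one_splits hζ
    have hne : ((X ^ q - 1 : (ZMod p)[X]).map (algebraMap (ZMod p) K)) ≠ 0 :=
      (Polynomial.map_ne_zero_iff (algebraMap (ZMod p) K).injective).mpr (C_1 (R := ZMod p) ▸ (monic_X_pow_sub_C (1 : ZMod p) hq.ne_zero).ne_zero)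
    have hs := hspl.of_dvd hne (Polynomial.map_dvd _ hdvd)
    obtain ⟨η, hη⟩ := hs.exists_eval_eq_zero (by
      rw [degree_map, degree_eq_natDegree hmon.ne_zero]; exact_mod_cast hdeg0)
    exact ⟨η, by rwa [eval_map_algebraMap] at hη⟩
  have hηq : η ^ q = 1 := by
    obtain ⟨c, hc⟩ := hdvd
    have := congrArg (aeval η) hc
    simpa [hη, sub_eq_zero] using this
  have hη1 : η ≠ 1 := by
    intro h1
    apply hT1
    have hroot : IsRoot μ 1 := by
      have : algebraMap (ZMod p) K (μ.eval 1) = 0 := by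
        rw [← aeval_algebraMap_apply_eq_algebraMap_eval, map_one, ← h1]; exact hη
      exact (map_eq_zero _).mp this
    have hX : X - C (1 : ZMod p) = μ := eq_of_monic_of_associated (monic_X_sub_C _) hmon
      ((irreducible_X_sub_C _).associated_of_dvd hirred (dvd_iff_isRoot.mpr hroot))
    have := minpoly.aeval (ZMod p) T
    rw [← hμ, ← hX, map_sub, aeval_X, aeval_C, map_one, sub_eq_zero] at this
    exact this
  have : NeZero q := ⟨hq.ne_zero⟩
  obtain ⟨i, -, hi⟩ := hζ.eq_pow_of_pow_eq_one hηq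
  have hiq : Nat.Coprime i q := (hq.coprime_iff_not_dvd.mpr fun hd => hη1 (by
    rw [← hi]; exact (hζ.pow_eq_one_iff_dvd i).mpr hd)).symm
  obtain ⟨j, -, hj⟩ := Nat.exists_mul_mod_eq_one_of_coprime hiq hq.one_lt
  have hjη : η ^ j = ζ := by
    rw [← hi, ← pow_mul, pow_eq_pow_mod _ hζ.pow_eq_one, hj, pow_one]
  have hjq : Nat.Coprime j q := (hq.coprime_iff_not_dvd.mpr fun hd => by
    rw [Nat.mul_mod, Nat.mod_eq_zero_of_dvd hd, mul_zero, Nat.zero_mod] at hj
    exact zero_ne_one hj).symm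
  let ψ : AdjoinRoot μ →ₐ[ZMod p] Module.End (ZMod p) V :=
    Ideal.Quotient.liftₐ (Ideal.span {μ}) (aeval T) (fun x hx => by
      obtain ⟨c, rfl⟩ := Ideal.mem_span_singleton.mp hx
      rw [map_mul, hμ, minpoly.aeval, zero_mul])
  have hψ : ψ (AdjoinRoot.root μ) = T := by
    show (aeval T) (X : (ZMod p)[X]) = T
    exact aeval_X T
  let φ : AdjoinRoot μ →ₐ[ZMod p] K :=
    Ideal.Quotient.liftₐ (Ideal.span {μ}) (aeval η) (fun x hx => by
      obtain ⟨c, rfl⟩ := Ideal.mem_span_singleton.mp hx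
      rw [map_mul, hη, zero_mul])
  have hφ : φ (AdjoinRoot.root μ) = η := by
    show (aeval η) (X : (ZMod p)[X]) = η
    exact aeval_X η
  have hφs : Function.Surjective φ.toRingHom := by
    refine RingHom.range_eq_top.mp (top_le_iff.mp ?_)
    rw [← (show Subring.closure ({ζ} : Set K) = ⊤ from hgen), Subring.closure_le, Set.singleton_subset_iff, ← hjη, ← hφ]
    exact ⟨AdjoinRoot.root μ ^ j, map_pow φ _ _⟩
  let e₀ := RingEquiv.ofBijective φ.toRingHom ⟨φ.toRingHom.injective, hφs⟩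
  let ρ : K →+* Module.End (ZMod p) V := ψ.toRingHom.comp e₀.symm.toRingHom
  have hρ : ρ ζ = T ^ j := by
    have h1 : e₀.symm η = AdjoinRoot.root μ := e₀.symm_apply_eq.mpr hφ.symm
    show ψ (e₀.symm ζ) = T ^ j
    rw [← hjη, map_pow, map_pow, h1, hψ]
  have hρT : ρ η = T := by
    have h1 : e₀.symm η = AdjoinRoot.root μ := e₀.symm_apply_eq.mpr hφ.symm
    show ψ (e₀.symm η) = T
    rw [h1, hψ]
  obtain ⟨v₀, hv₀⟩ := exists_ne (0 : V)
  let ev : K →+ V :=
    { toFun := fun u => ρ u v₀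
      map_zero' := by simp
      map_add' := fun u w => by simp }
  have hinj : Function.Injective ev := by
    refine (injective_iff_map_eq_zero ev).mpr fun u hu => ?_
    by_contra h0
    refine hv₀ ?_
    have h2 := congrArg (ρ u⁻¹) (show ρ u v₀ = 0 from hu)
    rwa [← Module.End.mul_apply, ← map_mul, inv_mul_cancel₀ h0, map_one, map_zero] at h2
  have hsurj : Function.Surjective ev := by
    let U : Submodule (ZMod p) V := AddSubgroup.toZModSubmodule p ev.range
    have hU : U = ⊤ := by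
      refine (hirr U ?_).resolve_left fun hb => hv₀ ?_
      · intro x hx
        obtain ⟨u, rfl⟩ := hx
        refine ⟨η * u, ?_⟩
        show ρ (η * u) v₀ = T (ρ u v₀)
        rw [map_mul, hρT]; rfl
      · have : v₀ ∈ U := ⟨1, by show ρ 1 v₀ = v₀; rw [map_one]; rfl⟩
        rwa [hb, Submodule.mem_bot] at this
    intro x
    exact (hU ▸ Submodule.mem_top : x ∈ U)
  refine ⟨j, AddEquiv.ofBijective ev ⟨hinj, hsurj⟩, hjq, fun u => ?_⟩
  show ρ (ζ * u) v₀ = (T ^ j) (ρ u v₀)
  rw [map_mul, hρ]; rfl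

/-- An irreducible automorphism of order `q` of an elementary abelian group. -/
theorem exists_equivariant_aux {K : Type u} [Field K] [Finite K] [Fact p.Prime] [CharP K p] {ζ : K}
    (hgen : Generates ζ) (hζ : IsPrimitiveRoot ζ q) (hq : q.Prime)
    {W : Type v} [CommGroup W] [Finite W] [Nontrivial W] (τ : MulAut W) (hτ : τ ^ q = 1) (hτ1 : τ ≠ 1)
    [Module (ZMod p) (Additive W)]
    (hirr : ∀ U : Subgroup W, (∀ x ∈ U, τ x ∈ U) → U = ⊥ ∨ U = ⊤) :
    ∃ (j : ℕ) (π : W ≃* Multiplicative K), Nat.Coprime j q ∧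
      ∀ x, (π ((τ ^ j) x)).toAdd = ζ * (π x).toAdd := by
  letI : Algebra (ZMod p) K := ZMod.algebra K p
  let T : Module.End (ZMod p) (Additive W) := (MonoidHom.toAdditive τ.toMonoidHom).toZModLinearMap p
  have hT : ∀ (n : ℕ) (x : W), (T ^ n) (Additive.ofMul x) = Additive.ofMul ((τ ^ n) x) := by
    intro n
    induction n with
    | zero => intro x; rfl
    | succ n ih => intro x; rw [pow_succ', Module.End.mul_apply, ih, pow_succ', MulAut.mul_apply]; rfl
  have hTq : T ^ q = 1 := LinearMap.ext fun v => by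
    rw [show v = Additive.ofMul v.toMul from rfl, hT, hτ]; rfl
  have hT1 : T ≠ 1 := fun e => hτ1 (MulEquiv.ext fun x => by
    have := hT 1 x
    rw [pow_one, pow_one, e] at this
    exact (Additive.ofMul.injective this).symm)
  obtain ⟨j, e, hjq, he⟩ := exists_field_structure hgen hζ hq T hTq hT1 (fun U hU => by
    rcases hirr (AddSubgroup.toSubgroup' U.toAddSubgroup) (fun x hx => hU _ hx) with h | h
    · left
      refine eq_bot_iff.mpr fun v hv => ?_
      have : v.toMul ∈ AddSubgroup.toSubgroup' U.toAddSubgroup := hv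
      rw [h, Subgroup.mem_bot] at this
      rw [Submodule.mem_bot]
      exact Additive.toMul.injective this
    · right
      refine eq_top_iff.mpr fun v _ => ?_
      have : v.toMul ∈ AddSubgroup.toSubgroup' U.toAddSubgroup := h ▸ Subgroup.mem_top _
      exact this)
  refine ⟨j, (MulEquiv.toMultiplicative_toAdditive (G := W)).symm.trans (AddEquiv.toMultiplicative e.symm), hjq,
    fun x => ?_⟩
  show e.symm (Additive.ofMul ((τ ^ j) x)) = ζ * e.symm (Additive.ofMul x)
  rw [← hT, AddEquiv.symm_apply_eq, he, AddEquiv.apply_symm_apply]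

/-- An irreducible automorphism of order `q` of an elementary abelian group. -/
theorem exists_equivariant {K : Type u} [Field K] [Finite K] [Fact p.Prime] [CharP K p] {ζ : K}
    (hgen : Generates ζ) (hζ : IsPrimitiveRoot ζ q) (hq : q.Prime)
    {W : Type v} [CommGroup W] [Finite W] [Nontrivial W] (τ : MulAut W) (hτ : τ ^ q = 1) (hτ1 : τ ≠ 1)
    (hexp : ∀ x : W, x ^ p = 1)
    (hirr : ∀ U : Subgroup W, (∀ x ∈ U, τ x ∈ U) → U = ⊥ ∨ U = ⊤) :
    ∃ (j : ℕ) (π : W ≃* Multiplicative K), Nat.Coprime j q ∧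
      ∀ x, (π ((τ ^ j) x)).toAdd = ζ * (π x).toAdd := by
  letI : Algebra (ZMod p) K := ZMod.algebra K p
  have hz : ∀ v : Additive W, p • v = 0 := fun v => by
    show Additive.ofMul (v.toMul ^ p) = 0
    rw [hexp]; rfl
  exact @exists_equivariant_aux p q K _ _ _ _ ζ hgen hζ hq W _ _ _ τ hτ hτ1
    (AddCommGroup.zmodModule hz) hirr

theorem exists_ext [Fact p.Prime] [Fact q.Prime] {K : Type u} [Field K] {ζ : K} (h : Setting p q a ζ)
    (X : Type v) [Group X] [Finite X] (h1 : ¬ Cfsg.HasNormalPComplement p X)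
    (h2 : ∀ H : Subgroup X, H ≠ ⊤ → Cfsg.HasNormalPComplement p ↥H)
    (hX : ∃ t, Nat.card X = p ^ t * q ^ r) :
    ∃ (A : Subgroup X) (D : Twist ζ A), Nonempty (Ext D q r X) := by
  classical
  have := h.finite
  have := h.charP
  let _ := ZMod.algebra K p
  obtain ⟨hnil, -, hPn⟩ := Transfer.structure_of_minimal h1 h2
  obtain ⟨P⟩ := (inferInstance : Nonempty (Sylow p X))
  obtain ⟨Q₁, g, q₁, k, hQ₁, hq₁, hq₁p, hord, -, hgC'⟩ := Transfer.exists_prime_pow_not_centralize P h1
  set A : Subgroup X := (P : Subgroup X) with hA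
  have := hPn P
  have hAp : IsPGroup p A := P.2
  have hgC : g ∉ Subgroup.centralizer (A : Set X) := fun hc => hgC' (Subgroup.centralizer_le hQ₁ hc)
  obtain ⟨t, ht⟩ := hX
  have hk0 : k ≠ 0 := by
    rintro rfl
    rw [pow_zero, orderOf_eq_one_iff] at hord
    exact hgC (hord ▸ one_mem _)
  have hqq : q₁ = q := by
    have hd : q₁ ∣ p ^ t * q ^ r := ht ▸ ((dvd_pow_self q₁ hk0).trans (hord.symm.dvd.trans (orderOf_dvd_natCard g)))
    rcases hq₁.dvd_mul.mp hd with e | e
    · exact absurd ((Nat.prime_dvd_prime_iff_eq hq₁ h.hp).mp (hq₁.dvd_of_dvd_pow e)) hq₁p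
    · exact (Nat.prime_dvd_prime_iff_eq hq₁ h.hq).mp (hq₁.dvd_of_dvd_pow e)
  subst hqq
  have hgp : IsPGroup q₁ (Subgroup.zpowers g) := IsPGroup.of_card (n := k) (by rw [Nat.card_zpowers, hord])
  -- elements of proper subgroups commute
  have hcomm : ∀ L : Subgroup X, L ≠ ⊤ → ∀ x ∈ L, x ∈ A → ∀ z ∈ L, z ∈ Subgroup.zpowers g → Commute x z := by
    intro L hL x hxL hxA z hzL hzg
    have := hnil L hL
    obtain ⟨i, hi⟩ := IsPGroup.iff_orderOf.mp hAp ⟨x, hxA⟩
    obtain ⟨l, hl⟩ := IsPGroup.iff_orderOf.mp hgp ⟨z, hzg⟩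
    rw [← Subgroup.orderOf_coe] at hi hl
    exact congrArg Subtype.val (Solvable.commute_of_nilpotent hq₁p.symm (x := (⟨x, hxL⟩ : L))
      (y := ⟨z, hzL⟩) (by rw [← Subgroup.orderOf_coe]; exact hi) (by rw [← Subgroup.orderOf_coe]; exact hl)).eq
  have htop : A ⊔ Subgroup.zpowers g = ⊤ := by
    by_contra hne
    refine hgC (Subgroup.mem_centralizer_iff.mpr fun x hx => ?_)
    exact hcomm _ hne x (Subgroup.mem_sup_left hx) hx g (Subgroup.mem_sup_right (Subgroup.mem_zpowers g)) (Subgroup.mem_zpowers g)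
  have hdisj : Disjoint A (Subgroup.zpowers g) := IsPGroup.disjoint_of_ne p q₁ hq₁p.symm _ _ hAp hgp
  have hcompl : A.IsComplement' (Subgroup.zpowers g) :=
    Subgroup.isComplement'_of_disjoint_and_mul_eq_univ hdisj (by rw [← Subgroup.normal_mul, htop]; rfl)
  obtain ⟨m, hm⟩ := hAp.exists_card_eq
  have hkr : k = r := by
    have e := hcompl.card_mul
    rw [hm, Nat.card_zpowers, hord, ht] at e
    have := congrArg (fun n => n.factorization q₁) e
    simp only [Nat.factorization_mul (pow_ne_zero _ h.hp.ne_zero) (pow_ne_zero _ h.hq.ne_zero),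
      h.hp.factorization_pow, h.hq.factorization_pow] at this
    simpa [hq₁p.symm] using this
  subst hkr
  -- the action of `g`
  let σ : MulAut A := (MulAut.conjNormal : X →* MulAut A) g
  have hσ : ∀ x : A, ((σ x : A) : X) = g * x * g⁻¹ := fun x => MulAut.conjNormal_apply g x
  have hσ1 : σ ≠ 1 := fun e => hgC (Subgroup.mem_centralizer_iff.mpr fun x hx => by
    have := hσ ⟨x, hx⟩
    rw [e, MulAut.one_apply] at this
    exact (eq_mul_inv_iff_mul_eq.mp this))
  have hσq : σ ^ q₁ = 1 := by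
    refine MulEquiv.ext fun x => Subtype.ext ?_
    have hne : A ⊔ Subgroup.zpowers (g ^ q₁) ≠ ⊤ := by
      intro e
      have hmem : g ∈ A ⊔ Subgroup.zpowers (g ^ q₁) := e ▸ Subgroup.mem_top g
      obtain ⟨y, hy, z, hz, hyz⟩ := Subgroup.mem_sup_of_normal_left.mp hmem
      have hzg : z ∈ Subgroup.zpowers g := Subgroup.zpowers_le.mpr (pow_mem (Subgroup.mem_zpowers g) _) hz
      have hy1 : y = 1 := Subgroup.disjoint_def.mp hdisj hy (by
        rw [show y = g * z⁻¹ by rw [← hyz]; group]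
        exact mul_mem (Subgroup.mem_zpowers g) (inv_mem hzg))
      rw [hy1, one_mul] at hyz
      subst hyz
      have hd := orderOf_dvd_of_mem_zpowers hz
      rw [orderOf_pow_of_dvd h.hq.ne_zero (hord ▸ dvd_pow_self q₁ hk0), hord] at hd
      exact absurd (Nat.le_of_dvd (Nat.div_pos (Nat.le_of_dvd (pow_pos h.hq.pos k) (dvd_pow_self q₁ hk0)) h.hq.pos) hd)
        (not_le.mpr (Nat.div_lt_self (pow_pos h.hq.pos k) h.hq.one_lt))
    have hc := hcomm _ hne x (Subgroup.mem_sup_left x.2) x.2 (g ^ q₁)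
      (Subgroup.mem_sup_right (Subgroup.mem_zpowers _)) (pow_mem (Subgroup.mem_zpowers g) _)
    rw [show σ ^ q₁ = (MulAut.conjNormal : X →* MulAut A) (g ^ q₁) from (map_pow _ _ _).symm,
      MulAut.conjNormal_apply, ← hc.eq, mul_inv_cancel_right, MulAut.one_apply]
  have hinv : ∀ B : Subgroup A, B ≠ ⊤ → (∀ b ∈ B, σ b ∈ B) → ∀ b ∈ B, σ b = b := by
    intro B hB hBi b hb
    set B' := B.map A.subtype
    have hnorm : Subgroup.zpowers g ≤ Subgroup.normalizer (B' : Set X) := by
      rw [Subgroup.zpowers_le, Subgroup.mem_normalizer_iff]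
      intro x
      constructor
      · rintro ⟨c, hc, rfl⟩
        exact ⟨σ c, hBi c hc, hσ c⟩
      · rintro ⟨c, hc, hce⟩
        refine ⟨(σ ^ (q₁ - 1)) c, ?_, ?_⟩
        · have hpow : ∀ (n : ℕ), ∀ c ∈ B, (σ ^ n) c ∈ B := fun n => by
            induction n with
            | zero => intro c hc; simpa using hc
            | succ n ih => intro c hc; rw [pow_succ', MulAut.mul_apply]; exact hBi _ (ih c hc)
          exact hpow _ c hc
        · have h3 : σ ((σ ^ (q₁ - 1)) c) = c := by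
            rw [← MulAut.mul_apply, ← pow_succ', Nat.sub_add_cancel h.hq.one_le, hσq, MulAut.one_apply]
          have h4 := hσ ((σ ^ (q₁ - 1)) c)
          rw [h3] at h4
          have h5 : g * x * g⁻¹ = g * (((σ ^ (q₁ - 1)) c : A) : X) * g⁻¹ := hce.symm.trans h4
          exact (mul_left_cancel (mul_right_cancel h5)).symm
    have hne : B' ⊔ Subgroup.zpowers g ≠ ⊤ := fun e => hB (top_le_iff.mp fun c _ => by
      have hc : (c : X) ∈ B' ⊔ Subgroup.zpowers g := e ▸ Subgroup.mem_top _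
      rw [sup_comm, Coprime.mem_sup_iff_of_le_normalizer hnorm] at hc
      obtain ⟨z, hz, _, ⟨w, hw, rfl⟩, hzw⟩ := hc
      have hz1 : z = 1 := Subgroup.disjoint_def.mp hdisj (by
        rw [show z = (c : X) * (w : X)⁻¹ by rw [← hzw]; exact (mul_inv_cancel_right z _).symm]
        exact mul_mem c.2 (inv_mem w.2)) hz
      rw [hz1, one_mul] at hzw
      exact (Subtype.ext hzw.symm : c = w) ▸ hw)
    have hc := hcomm _ hne b (Subgroup.mem_sup_left ⟨b, hb, rfl⟩) b.2 g
      (Subgroup.mem_sup_right (Subgroup.mem_zpowers g)) (Subgroup.mem_zpowers g)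
    refine Subtype.ext ?_
    rw [hσ, ← hc.eq, mul_inv_cancel_right]
  -- automorphisms with the same invariant subgroups generate
  have hgenj : ∀ τ : MulAut A, τ ≠ 1 → τ ^ q₁ = 1 →
      (∀ B : Subgroup A, B ≠ ⊤ → (∀ b ∈ B, τ b ∈ B) → ∀ b ∈ B, τ b = b) →
      Subgroup.closure (Set.range fun y : A => y⁻¹ * τ y) = ⊤ := by
    intro τ hτ hτq hτinv
    set L := Subgroup.closure (Set.range fun y : A => y⁻¹ * τ y) with hL
    by_contra hne
    have hLi : L ≤ L.comap τ.toMonoidHom := by
      rw [hL, Subgroup.closure_le]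
      rintro _ ⟨y, rfl⟩
      exact Subgroup.subset_closure ⟨τ y, by simp⟩
    refine hτ (MulEquiv.ext fun y => ?_)
    have hfix : τ (y⁻¹ * τ y) = y⁻¹ * τ y := hτinv L hne (fun b hb => hLi hb) _ (Subgroup.subset_closure ⟨y, rfl⟩)
    have hk : ∀ n : ℕ, (τ ^ n) y = y * (y⁻¹ * τ y) ^ n := by
      intro n
      induction n with
      | zero => simp
      | succ n ih => rw [pow_succ', MulAut.mul_apply, ih, map_mul, map_pow, hfix, pow_succ', ← mul_assoc, mul_inv_cancel_left]
    have h3 := hk q₁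
    rw [hτq, MulAut.one_apply] at h3
    obtain ⟨i, hi⟩ := hAp (y⁻¹ * τ y)
    have h4 : y⁻¹ * τ y = 1 := orderOf_eq_one_iff.mp (Nat.eq_one_of_dvd_coprimes
      (((Nat.coprime_primes h.hq h.hp).mpr hq₁p).pow_right i)
      (orderOf_dvd_of_pow_eq_one ((mul_left_cancel (a := y) (by rw [mul_one]; exact h3.symm)))) (orderOf_dvd_of_pow_eq_one hi))
    rw [MulAut.one_apply]
    exact (inv_mul_eq_one.mp h4).symm
  have hgen := hgenj σ hσ1 hσq hinv
  have hcent : ∀ B : Subgroup A, B.Normal → B ≠ ⊤ → (∀ b ∈ B, σ b ∈ B) → B ≤ Subgroup.center A := by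
    intro B hBn hB hBi b hb
    have hmem : Subgroup.closure (Set.range fun y : A => y⁻¹ * σ y) ≤ Subgroup.centralizer ({b} : Set A) := by
      rw [Subgroup.closure_le]
      rintro _ ⟨y, rfl⟩
      have hc : y * b * y⁻¹ ∈ B := hBn.conj_mem b hb y
      have h1 := hinv B hB hBi _ hc
      rw [map_mul, map_mul, map_inv, hinv B hB hBi b hb] at h1
      refine Subgroup.mem_centralizer_singleton_iff.mpr ?_
      show y⁻¹ * σ y * b = b * (y⁻¹ * σ y)
      calc y⁻¹ * σ y * b = y⁻¹ * (σ y * b * (σ y)⁻¹) * σ y := by group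
        _ = b * (y⁻¹ * σ y) := by rw [h1]; group
    rw [hgen] at hmem
    exact Subgroup.mem_center_iff.mpr fun y => Subgroup.mem_centralizer_singleton_iff.mp (hmem (Subgroup.mem_top y))
  let Z : Subgroup A :=
    { carrier := {x | x ∈ Subgroup.center A ∧ σ x = x}
      one_mem' := ⟨one_mem _, map_one σ⟩
      mul_mem' := fun {x y} hx hy => ⟨mul_mem hx.1 hy.1, by rw [map_mul, hx.2, hy.2]⟩
      inv_mem' := fun {x} hx => ⟨inv_mem hx.1, by rw [map_inv, hx.2]⟩ }
  have hBZ : ∀ B : Subgroup A, B.Normal → B ≠ ⊤ → (∀ b ∈ B, σ b ∈ B) → B ≤ Z :=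
    fun B hn hB hBi b hb => ⟨hcent B hn hB hBi hb, hinv B hB hBi b hb⟩
  have hnt : Nontrivial A := by
    by_contra hs
    rw [not_nontrivial_iff_subsingleton] at hs
    exact hσ1 (MulEquiv.ext fun x => Subsingleton.elim _ _)
  have hfrat : frattini A ≤ Z := by
    refine hBZ _ inferInstance (fun e => ?_) fun b hb => ?_
    · exact (frattini_nongenerating (G := A) (K := ⊥) (by rw [e, bot_sup_eq])) |> fun h0 => bot_ne_top h0
    · exact (Subgroup.characteristic_iff_le_comap.mp inferInstance σ) hb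
  have hZn : Z.Normal := ⟨fun x hx y => by
    rw [Subgroup.mem_center_iff.mp hx.1 y, mul_inv_cancel_right]; exact hx⟩
  have hcommZ : commutator A ≤ Z := (PGroup.commutator_le_frattini hAp).trans hfrat
  letI : CommGroup (A ⧸ Z) :=
    { (inferInstance : Group (A ⧸ Z)) with
      mul_comm := fun x y => by
        obtain ⟨x, rfl⟩ := QuotientGroup.mk_surjective x
        obtain ⟨y, rfl⟩ := QuotientGroup.mk_surjective y
        rw [← QuotientGroup.mk_mul, ← QuotientGroup.mk_mul, QuotientGroup.eq]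
        refine hcommZ ?_
        rw [show (x * y)⁻¹ * (y * x) = ⁅y⁻¹, x⁻¹⁆ by simp only [commutatorElement_def]; group]
        exact Subgroup.commutator_mem_commutator (Subgroup.mem_top _) (Subgroup.mem_top _) }
  have hZtop : Z ≠ ⊤ := fun e => hσ1 (MulEquiv.ext fun x => (e ▸ Subgroup.mem_top x : x ∈ Z).2)
  have : Nontrivial (A ⧸ Z) := by
    by_contra hs
    rw [not_nontrivial_iff_subsingleton] at hs
    exact hZtop (top_le_iff.mp fun x _ => (QuotientGroup.eq_one_iff x).mp (Subsingleton.elim _ _))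
  have hσmap : Z.map σ.toMonoidHom = Z := by
    refine le_antisymm ?_ ?_
    · rintro _ ⟨x, hx, rfl⟩
      show σ x ∈ Z
      rw [hx.2]; exact hx
    · intro x hx; exact ⟨x, hx, hx.2⟩
  let τ : MulAut (A ⧸ Z) := QuotientGroup.congr Z Z σ hσmap
  have hτ : ∀ (n : ℕ) (x : A), (τ ^ n) (x : A ⧸ Z) = (((σ ^ n) x : A) : A ⧸ Z) := by
    intro n
    induction n with
    | zero => intro x; rfl
    | succ n ih => intro x; rw [pow_succ', MulAut.mul_apply, ih, pow_succ', MulAut.mul_apply]; rfl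
  have hτq : τ ^ q₁ = 1 := MulEquiv.ext fun z => by
    obtain ⟨x, rfl⟩ := QuotientGroup.mk_surjective z
    rw [hτ, hσq]; rfl
  have hτ1 : τ ≠ 1 := fun e => hZtop (top_le_iff.mp (hgen ▸ (Subgroup.closure_le Z).mpr (by
    rintro _ ⟨y, rfl⟩
    have := hτ 1 y
    rw [pow_one, pow_one, e, MulAut.one_apply] at this
    exact QuotientGroup.eq.mp this)))
  have hexp : ∀ z : A ⧸ Z, z ^ p = 1 := fun z => by
    obtain ⟨x, rfl⟩ := QuotientGroup.mk_surjective z
    rw [← QuotientGroup.mk_pow, QuotientGroup.eq_one_iff]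
    exact hfrat (PGroup.pow_mem_frattini hAp x)
  have hirr : ∀ U : Subgroup (A ⧸ Z), (∀ x ∈ U, τ x ∈ U) → U = ⊥ ∨ U = ⊤ := by
    intro U hU
    by_cases hB : U.comap (QuotientGroup.mk' Z) = ⊤
    · exact Or.inr (top_le_iff.mp fun z _ => by
        obtain ⟨x, rfl⟩ := QuotientGroup.mk_surjective z
        exact (hB ▸ Subgroup.mem_top x : x ∈ U.comap (QuotientGroup.mk' Z)))
    · left
      refine eq_bot_iff.mpr fun z hz => ?_
      obtain ⟨x, rfl⟩ := QuotientGroup.mk_surjective z
      rw [Subgroup.mem_bot, QuotientGroup.eq_one_iff]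
      refine hBZ (U.comap (QuotientGroup.mk' Z)) ((inferInstance : U.Normal).comap _) hB (fun b hb => ?_) hz
      have := hU _ hb
      exact this
  obtain ⟨j, e, hjq, he⟩ := exists_equivariant (K := K) h.generates
    (h.order ▸ IsPrimitiveRoot.orderOf ζ) h.hq τ hτq hτ1 hexp hirr
  have hpow : ∀ n : ℕ, ∀ B : Subgroup A, (∀ b ∈ B, σ b ∈ B) → ∀ b ∈ B, (σ ^ n) b ∈ B := fun n B hB => by
    induction n with
    | zero => intro b hb; simpa using hb
    | succ n ih => intro b hb; rw [pow_succ', MulAut.mul_apply]; exact hB _ (ih b hb)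
  obtain ⟨i, -, hi⟩ := Nat.exists_mul_mod_eq_one_of_coprime hjq h.hq.one_lt
  have hback : (σ ^ j) ^ i = σ := by rw [← pow_mul, pow_eq_pow_mod _ hσq, hi, pow_one]
  have hj1 : σ ^ j ≠ 1 := fun e1 => hσ1 (by rw [← hback, e1, one_pow])
  have hjinv : ∀ B : Subgroup A, B ≠ ⊤ → (∀ b ∈ B, (σ ^ j) b ∈ B) → ∀ b ∈ B, (σ ^ j) b = b := by
    intro B hB hBi b hb
    have hBσ : ∀ b ∈ B, σ b ∈ B := by
      have : ∀ n : ℕ, ∀ b ∈ B, ((σ ^ j) ^ n) b ∈ B := fun n => by
        induction n with
        | zero => intro b hb; simpa using hb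
        | succ n ih => intro b hb; rw [pow_succ', MulAut.mul_apply]; exact hBi _ (ih b hb)
      intro b hb
      have := this i b hb
      rwa [hback] at this
    have hf := hinv B hB hBσ b hb
    have hall : ∀ n : ℕ, (σ ^ n) b = b := fun n => by
      induction n with
      | zero => rfl
      | succ n ih => rw [pow_succ, MulAut.mul_apply, hf, ih]
    exact hall j
  let π : A →* Multiplicative K := e.toMonoidHom.comp (QuotientGroup.mk' Z)
  have hπ : ∀ x : A, π x = e (x : A ⧸ Z) := fun x => rfl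
  have hker : π.ker = Z := by
    ext x
    rw [MonoidHom.mem_ker, ← QuotientGroup.eq_one_iff (N := Z), hπ, map_eq_one_iff _ e.injective]
  refine ⟨A, { σ := σ ^ j, π := π, surj := ?_, equiv := fun x => ?_, central := ?_, fix := ?_
               gen := hgenj _ hj1 (by rw [← pow_mul, mul_comm, pow_mul, hσq, one_pow]) hjinv },
    ⟨{ i := A.subtype, g := g ^ j, inj := A.subtype_injective, conj := fun x => ?_, top := ?_, ord := ?_ }⟩⟩
  · intro u
    obtain ⟨x, hx⟩ := QuotientGroup.mk_surjective (e.symm u)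
    exact ⟨x, by rw [hπ, hx]; exact e.apply_symm_apply _⟩
  · rw [hπ, hπ, ← hτ, he]
  · rw [hker]; exact fun x hx => hx.1
  · intro n hn
    rw [hker] at hn
    have hall : ∀ l : ℕ, (σ ^ l) n = n := fun l => by
      induction l with
      | zero => rfl
      | succ l ih => rw [pow_succ, MulAut.mul_apply, hn.2, ih]
    exact hall j
  · show g ^ j * (x : X) * (g ^ j)⁻¹ = ((σ ^ j) x : A)
    rw [show σ ^ j = (MulAut.conjNormal : X →* MulAut A) (g ^ j) from (map_pow _ _ _).symm,
      MulAut.conjNormal_apply]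
  · rw [Subgroup.range_subtype, ← htop]
    congr 1
    refine le_antisymm (Subgroup.zpowers_le.mpr (pow_mem (Subgroup.mem_zpowers g) j)) (Subgroup.zpowers_le.mpr ?_)
    exact mem_zpowers_pow_iff.mpr (by rw [hord]; exact (hjq.pow_right k))
  · rw [Nat.Coprime.orderOf_pow (by rw [hord]; exact (hjq.symm.pow_left k)), hord]

end Cfsg.Agent.SchmidtUniversal
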