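import Cfsg.Agent.Lib.SchmidtUniversal.FromGroup

/-!
# The maximal Schmidt groups
-/

namespace Cfsg.Agent.SchmidtUniversal

open scoped commutatorElement

universe u v w

variable {p q a r : ℕ} {K : Type u} [Field K] {ζ : K}

theorem twisted_eq {B : Type v} [Group B] (E : Twist ζ B) {s d : B} (hsd : E.π s = E.π d) :
      s⁻¹ * E.σ s = d⁻¹ * E.σ d := by
    have hn : d⁻¹ * s ∈ E.π.ker := by
      rw [MonoidHom.mem_ker, map_mul, map_inv, inv_mul_eq_one, hsd]
    have hc := Subgroup.mem_center_iff.mp (E.central hn)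
    generalize hgen : d⁻¹ * s = n at hn hc
    rw [inv_mul_eq_iff_eq_mul] at hgen
    subst hgen
    rw [map_mul, E.fix _ hn, show (d * n)⁻¹ * (E.σ d * n) = n⁻¹ * ((d⁻¹ * E.σ d) * n) by group,
      hc, inv_mul_cancel_left]

/-- Every twist is an equivariant image of a twist of the largest order. -/
theorem Setting.exists_cover (h : Setting p q a ζ) {A₀ : Type v} [Group A₀] [Finite A₀] (D₀ : Twist ζ A₀)
    (hA₀ : Nat.card A₀ = p ^ (if a % 2 = 1 then a else 3 * a / 2))
    {A : Type w} [Group A] [Finite A] (D : Twist ζ A) :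
    ∃ f : A₀ →* A, Function.Surjective f ∧ (∀ x, f (D₀.σ x) = D.σ (f x)) ∧ f.ker ≤ D₀.π.ker := by
  -- the fibre product and the subgroup generated by its twisted differences
  let F : Subgroup (A₀ × A) :=
    { carrier := {x | D₀.π x.1 = D.π x.2}
      one_mem' := by simp
      mul_mem' := fun {x y} (hx : D₀.π x.1 = D.π x.2) (hy : D₀.π y.1 = D.π y.2) =>
        (show D₀.π (x.1 * y.1) = D.π (x.2 * y.2) by rw [map_mul, map_mul, hx, hy])
      inv_mem' := fun {x} (hx : D₀.π x.1 = D.π x.2) =>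
        (show D₀.π x.1⁻¹ = D.π x.2⁻¹ by rw [map_inv, map_inv, hx]) }
  let σ₂ : A₀ × A →* A₀ × A := MonoidHom.prodMap D₀.σ.toMonoidHom D.σ.toMonoidHom
  let S : Subgroup (A₀ × A) := Subgroup.closure ((fun y => y⁻¹ * σ₂ y) '' (F : Set (A₀ × A)))
  have hσF : ∀ x ∈ F, σ₂ x ∈ F := fun x hx => Multiplicative.toAdd.injective (by
    show (D₀.π (D₀.σ x.1)).toAdd = (D.π (D.σ x.2)).toAdd
    rw [D₀.equiv, D.equiv, show D₀.π x.1 = D.π x.2 from hx])
  have hSF : S ≤ F := (Subgroup.closure_le _).mpr (by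
    rintro _ ⟨y, hy, rfl⟩; exact mul_mem (inv_mem hy) (hσF y hy))
  have hσS : ∀ x ∈ S, σ₂ x ∈ S := fun x hx => by
    refine (Subgroup.closure_le (S.comap σ₂)).mpr ?_ hx
    rintro _ ⟨y, hy, rfl⟩
    exact Subgroup.subset_closure ⟨σ₂ y, hσF y hy, by rw [map_mul, map_inv]⟩
  let σS : MulAut S := MulEquiv.ofBijective
    ({ toFun := fun x => ⟨σ₂ x, hσS x x.2⟩, map_one' := Subtype.ext (map_one σ₂),
       map_mul' := fun x y => Subtype.ext (map_mul σ₂ (x : A₀ × A) y) } : S →* S)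
    (Finite.injective_iff_bijective.mp fun x y e => by
      have e' := congrArg Subtype.val e
      exact Subtype.ext (Prod.ext (D₀.σ.injective (congrArg Prod.fst e')) (D.σ.injective (congrArg Prod.snd e'))))
  let πS : S →* Multiplicative K := D₀.π.comp ((MonoidHom.fst A₀ A).comp S.subtype)
  have hS1 : Function.Surjective ((MonoidHom.fst A₀ A).comp S.subtype) := by
    refine MonoidHom.range_eq_top.mp (top_le_iff.mp ?_)
    rw [← D₀.gen, Subgroup.closure_le]
    rintro _ ⟨y, rfl⟩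
    obtain ⟨z, hz⟩ := D.surj (D₀.π y)
    exact ⟨⟨_, Subgroup.subset_closure ⟨(y, z), hz.symm, rfl⟩⟩, rfl⟩
  have hS2 : Function.Surjective ((MonoidHom.snd A₀ A).comp S.subtype) := by
    refine MonoidHom.range_eq_top.mp (top_le_iff.mp ?_)
    rw [← D.gen, Subgroup.closure_le]
    rintro _ ⟨z, rfl⟩
    obtain ⟨y, hy⟩ := D₀.surj (D.π z)
    exact ⟨⟨_, Subgroup.subset_closure ⟨(y, z), hy, rfl⟩⟩, rfl⟩
  have hker : ∀ x : S, x ∈ πS.ker → (x : A₀ × A).1 ∈ D₀.π.ker ∧ (x : A₀ × A).2 ∈ D.π.ker := fun x hx =>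
    ⟨hx, MonoidHom.mem_ker.mpr ((hSF x.2 : D₀.π (x : A₀ × A).1 = D.π (x : A₀ × A).2).symm.trans hx)⟩
  have hfix : ∀ x : S, x ∈ πS.ker → σS x = x := fun x hx => Subtype.ext
    (Prod.ext (D₀.fix _ (hker x hx).1) (D.fix _ (hker x hx).2))
  let DS : Twist ζ S :=
    { σ := σS, π := πS, surj := D₀.surj.comp hS1, equiv := fun x => D₀.equiv _
      central := fun x hx => Subgroup.mem_center_iff.mpr fun y => Subtype.ext
        (Prod.ext (Subgroup.mem_center_iff.mp (D₀.central (hker x hx).1) _)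
          (Subgroup.mem_center_iff.mp (D.central (hker x hx).2) _))
      fix := hfix
      gen := by
        refine top_le_iff.mp fun x _ => ?_
        set T := Subgroup.closure (Set.range fun y : S => y⁻¹ * σS y) with hT
        have key : S ≤ T.map S.subtype := by
          refine (Subgroup.closure_le _).mpr ?_
          rintro _ ⟨d, hd, rfl⟩
          obtain ⟨s, hs⟩ := (D₀.surj.comp hS1) (D₀.π d.1)
          refine ⟨s⁻¹ * σS s, Subgroup.subset_closure ⟨s, rfl⟩, ?_⟩
          have hs1 : D₀.π (s : A₀ × A).1 = D₀.π d.1 := hs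
          have hs2 : D.π (s : A₀ × A).2 = D.π d.2 :=
            ((hSF s.2 : D₀.π (s : A₀ × A).1 = D.π (s : A₀ × A).2).symm.trans hs1).trans hd
          refine Prod.ext ?_ ?_
          · exact twisted_eq D₀ hs1
          · exact twisted_eq D hs2
        obtain ⟨y, hy, hyx⟩ := key x.2
        exact (Subtype.ext hyx : y = x) ▸ hy }
  have hinj : Function.Injective ((MonoidHom.fst A₀ A).comp S.subtype) := by
    refine ((Nat.bijective_iff_surjective_and_card _).mpr ⟨hS1, ?_⟩).1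
    exact le_antisymm (hA₀ ▸ h.card_le DS) (Nat.card_le_card_of_surjective _ hS1)
  let e : S ≃* A₀ := MulEquiv.ofBijective ((MonoidHom.fst A₀ A).comp S.subtype) ⟨hinj, hS1⟩
  refine ⟨((MonoidHom.snd A₀ A).comp S.subtype).comp e.symm.toMonoidHom, hS2.comp e.symm.surjective,
    fun x => ?_, fun x hx => ?_⟩
  · have : e.symm (D₀.σ x) = σS (e.symm x) := by
      rw [e.symm_apply_eq]
      show D₀.σ x = D₀.σ (e (e.symm x))
      rw [e.apply_symm_apply]
    show (e.symm (D₀.σ x) : A₀ × A).2 = D.σ (e.symm x : A₀ × A).2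
    rw [this]; rfl
  · have h2 : (e.symm x : A₀ × A).2 = 1 := hx
    have h1 : D₀.π (e.symm x : A₀ × A).1 = D.π (e.symm x : A₀ × A).2 := hSF (e.symm x).2
    rw [h2, map_one, show (e.symm x : A₀ × A).1 = x from e.apply_symm_apply x] at h1
    exact h1

/-- The largest twist extended by a cyclic group of order `q ^ r` maps onto every group extending a twist. -/
theorem Setting.exists_universal (h : Setting p q a ζ) (r : ℕ) (hr : r ≠ 0) :
    ∃ (G : Type u) (_ : Group G) (_ : Finite G) (A₀ : Type u) (_ : Group A₀) (_ : Finite A₀)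
      (D₀ : Twist ζ A₀) (_ : Ext D₀ q r G), IsPGroup p A₀ ∧
      Nat.card A₀ = p ^ (if a % 2 = 1 then a else 3 * a / 2) ∧
      ∀ (X : Type v) [Group X] [Finite X] (A : Type v) [Group A] [Finite A] (D : Twist ζ A),
        Ext D q r X → ∃ φ : G →* X, Function.Surjective φ ∧ φ.ker ≤ Subgroup.center G := by
  obtain ⟨A₀, i₁, i₂, D₀, hA₀⟩ := h.exists_twist
  have : Fact p.Prime := ⟨h.hp⟩
  have hn : q ^ r ≠ 0 := pow_ne_zero _ h.hq.ne_zero
  haveI : NeZero (q ^ r) := ⟨hn⟩
  let c₀ : Multiplicative (ZMod (q ^ r)) := Multiplicative.ofAdd 1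
  have hc₀ : orderOf c₀ = q ^ r := by rw [orderOf_ofAdd_eq_addOrderOf, ZMod.addOrderOf_one]
  have hgenc : ∀ x, x ∈ Subgroup.zpowers c₀ := fun x => by
    refine ⟨(x.toAdd.val : ℤ), ?_⟩
    refine Multiplicative.toAdd.injective ?_
    show ((x.toAdd.val : ℤ)) • (1 : ZMod (q ^ r)) = x.toAdd
    simp
  have hσ : orderOf D₀.σ ∣ orderOf c₀ := by
    rw [hc₀]
    exact (orderOf_dvd_of_pow_eq_one (D₀.σ_pow_eq_one (h.order ▸ pow_orderOf_eq_one ζ))).trans (dvd_pow_self q hr)
  let act := monoidHomOfForallMemZpowers hgenc hσ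
  have hact : act c₀ = D₀.σ := monoidHomOfForallMemZpowers_apply_gen hgenc hσ
  haveI : Finite (SemidirectProduct A₀ (Multiplicative (ZMod (q ^ r))) act) :=
    Finite.of_equiv _ SemidirectProduct.equivProd.symm
  let E₀ : Ext D₀ q r (SemidirectProduct A₀ (Multiplicative (ZMod (q ^ r))) act) :=
    { i := SemidirectProduct.inl, g := SemidirectProduct.inr c₀
      inj := SemidirectProduct.inl_injective
      conj := fun x => by rw [← hact, SemidirectProduct.inl_aut, map_inv]
      top := top_le_iff.mp fun x _ => by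
        rw [← SemidirectProduct.inl_left_mul_inr_right x]
        obtain ⟨j, hj⟩ := hgenc x.right
        refine mul_mem (Subgroup.mem_sup_left ⟨_, rfl⟩) (Subgroup.mem_sup_right ⟨j, ?_⟩)
        show (SemidirectProduct.inr c₀) ^ j = _
        rw [← map_zpow, show c₀ ^ j = x.right from hj]
      ord := by rw [orderOf_injective _ SemidirectProduct.inr_injective, hc₀] }
  refine ⟨_, inferInstance, inferInstance, A₀, i₁, i₂, D₀, E₀, IsPGroup.of_card hA₀, hA₀, ?_⟩
  intro X _ _ A _ _ D E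
  obtain ⟨f, hf, hfσ, hfker⟩ := h.exists_cover D₀ hA₀ D
  have hgX : orderOf E.g ∣ orderOf c₀ := by rw [hc₀, E.ord]
  let ψ := monoidHomOfForallMemZpowers hgenc hgX
  have hψ : ψ c₀ = E.g := monoidHomOfForallMemZpowers_apply_gen hgenc hgX
  have hpow : ∀ (k : ℕ) (x : A₀), f ((D₀.σ ^ k) x) = (D.σ ^ k) (f x) := fun k => by
    induction k with
    | zero => intro x; rfl
    | succ k ih => intro x; rw [pow_succ', MulAut.mul_apply, hfσ, ih, pow_succ', MulAut.mul_apply]
  let φ := SemidirectProduct.lift (φ := act) (E.i.comp f) ψ (fun c => MonoidHom.ext fun x => by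
    obtain ⟨k, hk⟩ := (Submonoid.mem_powers_iff _ _).mp (mem_powers_iff_mem_zpowers.mpr (hgenc c))
    show E.i (f (act c x)) = ψ c * E.i (f x) * (ψ c)⁻¹
    rw [← hk, map_pow act, map_pow ψ, hact, hψ, hpow, ← E.conj_pow])
  refine ⟨φ, ?_, fun x hx => ?_⟩
  · refine MonoidHom.range_eq_top.mp (top_le_iff.mp (E.top ▸ sup_le ?_ (Subgroup.zpowers_le.mpr
      ⟨SemidirectProduct.inr c₀, by rw [SemidirectProduct.lift_inr]; exact hψ⟩)))
    rintro _ ⟨y, rfl⟩
    obtain ⟨z, rfl⟩ := hf y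
    exact ⟨SemidirectProduct.inl z, SemidirectProduct.lift_inl _ _ _ z⟩
  · obtain ⟨b, j, rfl⟩ := E₀.exists_decomp x
    rw [MonoidHom.mem_ker, map_mul, map_zpow, SemidirectProduct.lift_inl, SemidirectProduct.lift_inr, hψ] at hx
    have hx' : E.i (f b) = E.g ^ (-j) := by rw [zpow_neg]; exact mul_eq_one_iff_eq_inv.mp hx
    have hA : IsPGroup p A := (IsPGroup.of_card hA₀).of_surjective f hf
    have h1 : E.i (f b) = 1 := Subgroup.disjoint_def.mp (E.isComplement h hA).disjoint ⟨_, rfl⟩ ⟨-j, hx'.symm⟩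
    have hb : b ∈ D₀.π.ker := hfker (MonoidHom.mem_ker.mpr ((map_eq_one_iff _ E.inj).mp h1))
    have hj : E₀.g ^ j = 1 := by
      rw [h1, eq_comm, zpow_neg, inv_eq_one, ← orderOf_dvd_iff_zpow_eq_one, E.ord, ← E₀.ord,
        orderOf_dvd_iff_zpow_eq_one] at hx'
      exact hx'
    rw [hj, mul_one, Subgroup.mem_center_iff]
    intro y
    obtain ⟨b', j', rfl⟩ := E₀.exists_decomp y
    have hcg : Commute E₀.g (E₀.i b) := by
      have := E₀.conj b
      rw [D₀.fix b hb] at this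
      exact mul_inv_eq_iff_eq_mul.mp this
    have hcb : Commute (E₀.i b') (E₀.i b) := (show Commute b' b from Subgroup.mem_center_iff.mp (D₀.central hb) b').map E₀.i
    exact hcb.mul_left (hcg.zpow_left j')

end Cfsg.Agent.SchmidtUniversal
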