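import Cfsg.Agent.Lib.SchmidtUniversal.Bound

/-!
# Largest twists: the elementary group and the unitary Heisenberg group
-/

namespace Cfsg.Agent.SchmidtUniversal

open scoped commutatorElement

universe u

variable {K : Type u} [Field K]

/-- The unitary Heisenberg group of a field with an involution `τ`. -/
@[ext]
structure Heis (τ : K →+* K) (hinv : ∀ x, τ (τ x) = x) where
  x : K
  y : K
  cond : y + τ y = x * τ x

namespace Heis

variable {τ : K →+* K} {hinv : ∀ x, τ (τ x) = x}

instance : Mul (Heis τ hinv) := ⟨fun a c => ⟨a.x + c.x, a.y + c.y + a.x * τ c.x, by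
  rw [map_add, map_add, map_add, map_mul, hinv]
  linear_combination a.cond + c.cond⟩⟩

instance : One (Heis τ hinv) := ⟨⟨0, 0, by simp⟩⟩

instance : Inv (Heis τ hinv) := ⟨fun a => ⟨-a.x, -a.y + a.x * τ a.x, by
  simp only [map_add, map_neg, map_mul, hinv]
  linear_combination -a.cond⟩⟩

@[simp] theorem mul_x (a c : Heis τ hinv) : (a * c).x = a.x + c.x := rfl
@[simp] theorem mul_y (a c : Heis τ hinv) : (a * c).y = a.y + c.y + a.x * τ c.x := rfl
@[simp] theorem one_x : (1 : Heis τ hinv).x = 0 := rfl
@[simp] theorem one_y : (1 : Heis τ hinv).y = 0 := rfl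
@[simp] theorem inv_x (a : Heis τ hinv) : (a⁻¹).x = -a.x := rfl
@[simp] theorem inv_y (a : Heis τ hinv) : (a⁻¹).y = -a.y + a.x * τ a.x := rfl

instance : Group (Heis τ hinv) where
  mul_assoc a c d := by ext <;> simp <;> ring
  one_mul a := by ext <;> simp
  mul_one a := by ext <;> simp
  inv_mul_cancel a := by ext <;> simp

/-- The group as pairs. -/
def equivSigma : Heis τ hinv ≃ Σ x : K, {y : K // y + τ y = x * τ x} where
  toFun a := ⟨a.x, a.y, a.cond⟩
  invFun a := ⟨a.1, a.2.1, a.2.2⟩
  left_inv _ := rfl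
  right_inv _ := rfl

/-- Projection to the first coordinate. -/
def proj : Heis τ hinv →* Multiplicative K where
  toFun a := Multiplicative.ofAdd a.x
  map_one' := rfl
  map_mul' _ _ := rfl

/-- Multiplication by a scalar of norm one. -/
def scale (c : K) (hc : c * τ c = 1) : MulAut (Heis τ hinv) where
  toFun a := ⟨c * a.x, a.y, by rw [a.cond, map_mul]; linear_combination -(a.x * τ a.x) * hc⟩
  invFun a := ⟨τ c * a.x, a.y, by rw [a.cond, map_mul, hinv]; linear_combination -(a.x * τ a.x) * hc⟩
  left_inv a := by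
    ext
    · show τ c * (c * a.x) = a.x
      linear_combination a.x * hc
    · rfl
  right_inv a := by
    ext
    · show c * (τ c * a.x) = a.x
      linear_combination a.x * hc
    · rfl
  map_mul' a d := by
    ext
    · show c * (a.x + d.x) = c * a.x + c * d.x
      ring
    · show a.y + d.y + a.x * τ d.x = a.y + d.y + c * a.x * τ (c * d.x)
      rw [map_mul]
      linear_combination -(a.x * τ d.x) * hc

end Heis

namespace Setting

variable {p q a : ℕ} {ζ : K} (h : Setting p q a ζ)
include h

theorem exists_twist_odd :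
    ∃ (A : Type u) (_ : Group A) (_ : Finite A) (_ : Twist ζ A), Nat.card A = p ^ a := by
  have := h.finite
  let σ : MulAut (Multiplicative K) :=
    { toFun := fun x => Multiplicative.ofAdd (ζ * x.toAdd)
      invFun := fun x => Multiplicative.ofAdd (ζ⁻¹ * x.toAdd)
      left_inv := fun x => Multiplicative.toAdd.injective (inv_mul_cancel_left₀ h.zeta_ne_zero _)
      right_inv := fun x => Multiplicative.toAdd.injective (mul_inv_cancel_left₀ h.zeta_ne_zero _)
      map_mul' := fun x y => Multiplicative.toAdd.injective (mul_add ζ x.toAdd y.toAdd) }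
  refine ⟨Multiplicative K, inferInstance, Finite.of_equiv K Multiplicative.ofAdd,
    { σ := σ, π := MonoidHom.id _, surj := fun x => ⟨x, rfl⟩, equiv := fun x => rfl
      central := fun x _ => Subgroup.mem_center_iff.mpr fun y => mul_comm y x
      fix := fun n hn => by
        rw [MonoidHom.mem_ker, MonoidHom.id_apply] at hn
        rw [hn, map_one]
      gen := ?_ }, h.card⟩
  refine top_le_iff.mp fun x _ => Subgroup.subset_closure ⟨Multiplicative.ofAdd ((ζ - 1)⁻¹ * x.toAdd), ?_⟩
  apply Multiplicative.toAdd.injective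
  show -((ζ - 1)⁻¹ * x.toAdd) + ζ * ((ζ - 1)⁻¹ * x.toAdd) = x.toAdd
  have hne : ζ - 1 ≠ 0 := sub_ne_zero.mpr h.zeta_ne_one
  field_simp
  ring

theorem exists_twist_even {b : ℕ} (hb : a = 2 * b) :
    ∃ (A : Type u) (_ : Group A) (_ : Finite A) (_ : Twist ζ A), Nat.card A = p ^ (a + b) := by
  classical
  have := h.finite
  have := h.charP
  have : Fact p.Prime := ⟨h.hp⟩
  let _ := Fintype.ofFinite K
  have hb0 : 0 < b := by have := h.a_pos; omega
  let τ : K →+* K := iterateFrobenius K p b
  have hτ : ∀ x, τ x = x ^ p ^ b := fun x => iterateFrobenius_def p b x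
  have hinv : ∀ x, τ (τ x) = x := fun x => by
    rw [hτ, hτ, ← pow_mul, ← pow_add, ← two_mul, ← hb, ← h.card, Nat.card_eq_fintype_card,
      FiniteField.pow_card]
  -- the trace and the map `y ↦ y - τ y`
  let tr : K →+ K := AddMonoidHom.id K + τ.toAddMonoidHom
  let di : K →+ K := AddMonoidHom.id K - τ.toAddMonoidHom
  have htr : ∀ y, tr y = y + τ y := fun y => rfl
  have hdi : ∀ y, di y = y - τ y := fun y => rfl
  have hroots : ∀ c : K, Nat.card {y : K // y ^ p ^ b = c * y} ≤ p ^ b := by
    intro c
    have hone : 1 < p ^ b := Nat.one_lt_pow hb0.ne' h.hp.one_lt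
    let P : Polynomial K := Polynomial.X ^ p ^ b - Polynomial.C c * Polynomial.X
    have hdeg : P.natDegree = p ^ b := by
      refine (Polynomial.natDegree_sub_eq_left_of_natDegree_lt ?_).trans (Polynomial.natDegree_X_pow _)
      rw [Polynomial.natDegree_X_pow]
      exact (Polynomial.natDegree_C_mul_le _ _).trans_lt (by rw [Polynomial.natDegree_X]; exact hone)
    have hne : P ≠ 0 := fun e => by rw [e, Polynomial.natDegree_zero] at hdeg; omega
    calc Nat.card {y : K // y ^ p ^ b = c * y} ≤ Nat.card {y : K // y ∈ P.roots.toFinset} := by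
          refine Nat.card_le_card_of_injective (fun y => ⟨y.1, ?_⟩) fun x y e =>
            Subtype.ext (congrArg (fun w : {y : K // y ∈ P.roots.toFinset} => (w : K)) e)
          rw [Multiset.mem_toFinset, Polynomial.mem_roots hne]
          simp [P, Polynomial.IsRoot, y.2]
      _ = P.roots.toFinset.card := Nat.card_eq_finsetCard _
      _ ≤ p ^ b := ((Multiset.toFinset_card_le _).trans (Polynomial.card_roots' P)).trans hdeg.le
  have hfix : Nat.card {y : K // τ y = y} ≤ p ^ b := by
    refine le_trans (le_of_eq (Nat.card_congr (Equiv.subtypeEquivRight fun y => ?_))) (hroots 1)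
    rw [hτ, one_mul]
  have hanti : Nat.card tr.ker ≤ p ^ b := by
    refine le_trans (le_of_eq (Nat.card_congr (Equiv.subtypeEquivRight fun y => ?_))) (hroots (-1))
    rw [AddMonoidHom.mem_ker, htr, hτ, neg_one_mul, add_comm, add_eq_zero_iff_eq_neg]
  have htrr : ∀ y, τ (tr y) = tr y := fun y => by rw [htr, map_add, hinv, add_comm]
  have hcard : ∀ f : K →+ K, Nat.card f.ker * Nat.card f.range = p ^ b * p ^ b := fun f => by
    rw [← AddSubgroup.index_ker, f.ker.card_mul_index, h.card, hb, two_mul, pow_add]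
  have hrange : Nat.card tr.range ≤ Nat.card {y : K // τ y = y} :=
    Nat.card_le_card_of_injective (fun y => ⟨y.1, by obtain ⟨y, z, rfl⟩ := y; exact htrr z⟩)
      fun x y e => Subtype.ext (congrArg (fun w : {y : K // τ y = y} => (w : K)) e)
  have hpos : 0 < p ^ b := pow_pos h.hp.pos b
  have hker : Nat.card tr.ker = p ^ b := by
    refine le_antisymm hanti ?_
    have := hcard tr
    nlinarith [Nat.mul_le_mul_left (Nat.card tr.ker) (hrange.trans hfix)]
  have hrcard : Nat.card tr.range = p ^ b :=
    Nat.eq_of_mul_eq_mul_left hpos (by rw [← hker]; exact hker.symm ▸ (hcard tr))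
  -- the trace is onto the fixed field
  have htsurj : ∀ c : K, τ c = c → ∃ y, y + τ y = c := by
    intro c hc
    let f : tr.range → {y : K // τ y = y} := fun y => ⟨y.1, by obtain ⟨y, z, rfl⟩ := y; exact htrr z⟩
    have hf : Function.Bijective f := by
      refine (Nat.bijective_iff_injective_and_card f).mpr ⟨fun x y e => Subtype.ext
        (congrArg (fun w : {y : K // τ y = y} => (w : K)) e), ?_⟩
      exact le_antisymm hrange (hrcard.symm ▸ hfix)
    obtain ⟨⟨_, z, rfl⟩, hz⟩ := hf.2 ⟨c, hc⟩
    exact ⟨z, congrArg Subtype.val hz⟩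
  -- `y - τ y` is onto the kernel of the trace
  have hdsurj : ∀ z, z + τ z = 0 → ∃ u, u - τ u = z := by
    intro z hz
    let f : di.range → tr.ker := fun y => ⟨y.1, by
      obtain ⟨y, u, rfl⟩ := y
      show tr (di u) = 0
      rw [htr, hdi, map_sub, hinv, sub_add_sub_cancel, sub_self]⟩
    have hk : Nat.card di.ker ≤ p ^ b := by
      refine le_trans (le_of_eq (Nat.card_congr (Equiv.subtypeEquivRight fun y => ?_))) hfix
      rw [AddMonoidHom.mem_ker, hdi, sub_eq_zero, eq_comm]
    have hf : Function.Bijective f := by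
      refine (Nat.bijective_iff_injective_and_card f).mpr ⟨fun x y e => Subtype.ext
        (congrArg (fun w : tr.ker => (w : K)) e), ?_⟩
      refine le_antisymm ((Nat.card_le_card_of_injective f fun x y e => Subtype.ext
        (congrArg (fun w : tr.ker => (w : K)) e))) ?_
      rw [hker]
      have := hcard di
      nlinarith [Nat.mul_le_mul_right (Nat.card di.range) hk]
    obtain ⟨⟨_, u, rfl⟩, hu⟩ := hf.2 ⟨z, hz⟩
    exact ⟨u, congrArg Subtype.val hu⟩
  have hnorm : ζ * τ ζ = 1 := by rw [hτ, h.zeta_pow_half hb, mul_inv_cancel₀ h.zeta_ne_zero]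
  have hsurj : Function.Surjective (Heis.proj : Heis τ hinv →* Multiplicative K) := fun x => by
    obtain ⟨y, hy⟩ := htsurj (x.toAdd * τ x.toAdd) (by rw [map_mul, hinv, mul_comm])
    exact ⟨⟨x.toAdd, y, hy⟩, rfl⟩
  have hker0 : ∀ n : Heis τ hinv, n ∈ (Heis.proj (τ := τ) (hinv := hinv)).ker → n.x = 0 :=
    fun n hn => congrArg Multiplicative.toAdd hn
  have : Finite (Heis τ hinv) := Finite.of_equiv _ Heis.equivSigma.symm
  refine ⟨Heis τ hinv, inferInstance, inferInstance,
    { σ := Heis.scale ζ hnorm, π := Heis.proj, surj := hsurj, equiv := fun x => rfl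
      central := fun n hn => Subgroup.mem_center_iff.mpr fun g => by
        have := hker0 n hn
        ext <;> simp [this, add_comm]
      fix := fun n hn => by
        have := hker0 n hn
        ext
        · show ζ * n.x = n.x
          rw [this, mul_zero]
        · rfl
      gen := ?_ }, ?_⟩
  · set T := Subgroup.closure (Set.range fun y : Heis τ hinv => y⁻¹ * (Heis.scale ζ hnorm) y)
    have hcover : ∀ u : K, ∃ t ∈ T, t.x = u := fun u => by
      obtain ⟨w, hw⟩ := hsurj (Multiplicative.ofAdd ((ζ - 1)⁻¹ * u))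
      refine ⟨_, Subgroup.subset_closure ⟨w, rfl⟩, ?_⟩
      have hx : w.x = (ζ - 1)⁻¹ * u := congrArg Multiplicative.toAdd hw
      show -w.x + ζ * w.x = u
      have hne : ζ - 1 ≠ 0 := sub_ne_zero.mpr h.zeta_ne_one
      rw [hx]; field_simp; ring
    refine top_le_iff.mp fun g _ => ?_
    obtain ⟨t, ht, htx⟩ := hcover g.x
    have hn : (t⁻¹ * g).x = 0 := by simp [htx]
    have hny := (t⁻¹ * g).cond
    rw [hn, zero_mul] at hny
    obtain ⟨u, hu⟩ := hdsurj _ hny
    obtain ⟨s, hs, hsx⟩ := hcover u
    obtain ⟨e, he, hex⟩ := hcover 1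
    have hcomm : s * e * (e * s)⁻¹ = t⁻¹ * g := by
      refine Heis.ext ?_ ?_
      · rw [hn]; simp [hsx, hex]; ring
      · rw [← hu]
        simp only [Heis.mul_y, Heis.mul_x, Heis.inv_y, Heis.inv_x, hsx, hex, map_one, map_add, map_neg]
        ring
    rw [show g = t * (t⁻¹ * g) from (mul_inv_cancel_left t g).symm, ← hcomm]
    exact T.mul_mem ht (T.mul_mem (T.mul_mem hs he) (T.inv_mem (T.mul_mem he hs)))
  · have hfib : ∀ x : K, Nat.card {y : K // y + τ y = x * τ x} = p ^ b := fun x => by
      obtain ⟨y₀, hy₀⟩ := htsurj (x * τ x) (by rw [map_mul, hinv, mul_comm])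
      rw [← hker]
      refine Nat.card_congr ((Equiv.subRight y₀).subtypeEquiv fun y => ?_)
      rw [AddMonoidHom.mem_ker, Equiv.subRight_apply, htr, map_sub, ← hy₀]
      constructor <;> intro e <;> linear_combination e
    rw [Nat.card_congr Heis.equivSigma, Nat.card_sigma, Finset.sum_congr rfl fun x _ => hfib x,
      Finset.sum_const, Finset.card_univ, smul_eq_mul, ← Nat.card_eq_fintype_card, h.card, pow_add]

theorem exists_twist : ∃ (A : Type u) (_ : Group A) (_ : Finite A) (_ : Twist ζ A),
    Nat.card A = p ^ (if a % 2 = 1 then a else 3 * a / 2) := by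
  split_ifs with hpar
  · exact h.exists_twist_odd
  · obtain ⟨A, i₁, i₂, D, hA⟩ := h.exists_twist_even (b := a / 2) (by omega)
    exact ⟨A, i₁, i₂, D, by rw [hA]; congr 1; omega⟩

end Setting

end Cfsg.Agent.SchmidtUniversal
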