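import Mathlib

/-!
# Groups twisted over a finite field

A `Twist ζ A` is an automorphism `σ` of a group `A` together with an equivariant map onto the
additive group of a field, `σ` acting there as multiplication by `ζ`, with central fixed kernel,
such that `A` is generated by the elements `y⁻¹ * σ y`.  These are exactly the normal Sylow
subgroups of Schmidt groups.  The kernel is the commutator subgroup and is bounded by the
`ζ`-invariant alternating forms; hence any two twists have a common cover of bounded order.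
-/

namespace Cfsg.Agent.SchmidtUniversal

open scoped commutatorElement

universe u v w

variable {K : Type u} [Field K]

/-- An automorphism of `A` lying over multiplication by `ζ` on `K`, with central fixed kernel. -/
structure Twist (ζ : K) (A : Type v) [Group A] where
  σ : MulAut A
  π : A →* Multiplicative K
  surj : Function.Surjective π
  equiv : ∀ x, (π (σ x)).toAdd = ζ * (π x).toAdd
  central : π.ker ≤ Subgroup.center A
  fix : ∀ n ∈ π.ker, σ n = n
  gen : Subgroup.closure (Set.range fun y : A => y⁻¹ * σ y) = ⊤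

/-- The additive closure of the powers of `ζ` is everything. -/
def Generates (ζ : K) : Prop := Subring.closure ({ζ} : Set K) = ⊤

theorem addSubgroup_eq_bot_or_top {ζ : K} (hζ : Generates ζ) (T : AddSubgroup K)
    (hT : ∀ x ∈ T, ζ * x ∈ T) : T = ⊥ ∨ T = ⊤ := by
  have hall : ∀ w : K, ∀ x ∈ T, w * x ∈ T := fun w => by
    have hw : w ∈ Subring.closure ({ζ} : Set K) := hζ ▸ Subring.mem_top w
    induction hw using Subring.closure_induction with
    | mem w hw => rw [Set.mem_singleton_iff] at hw; subst hw; exact hT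
    | zero => intro x _; rw [zero_mul]; exact T.zero_mem
    | one => intro x hx; rwa [one_mul]
    | add a b _ _ ha hb => intro x hx; rw [add_mul]; exact T.add_mem (ha x hx) (hb x hx)
    | neg a _ ha => intro x hx; rw [neg_mul]; exact T.neg_mem (ha x hx)
    | mul a b _ _ ha hb => intro x hx; rw [mul_assoc]; exact ha _ (hb x hx)
  refine or_iff_not_imp_left.mpr fun h => ?_
  obtain ⟨x, hx, hx0⟩ : ∃ x ∈ T, x ≠ 0 := by
    by_contra! hne
    exact h (eq_bot_iff.mpr fun x hx => (AddSubgroup.mem_bot).mpr (hne x hx))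
  refine eq_top_iff.mpr fun w _ => ?_
  simpa [mul_assoc, hx0] using hall (w * x⁻¹) x hx

namespace Twist

variable {ζ : K} {A : Type v} [Group A] (D : Twist ζ A)

theorem toAdd_π_iterate (k : ℕ) (x : A) : (D.π ((D.σ ^ k) x)).toAdd = ζ ^ k * (D.π x).toAdd := by
  induction k with
  | zero => simp
  | succ k ih => rw [pow_succ', MulAut.mul_apply, D.equiv, ih, pow_succ', mul_assoc]

theorem σ_pow_eq_one {q : ℕ} (hq : ζ ^ q = 1) : D.σ ^ q = 1 := by
  refine MulEquiv.ext fun x => ?_
  have hx : x ∈ Subgroup.closure (Set.range fun y : A => y⁻¹ * D.σ y) := D.gen ▸ Subgroup.mem_top x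
  induction hx using Subgroup.closure_induction with
  | mem x hx =>
    obtain ⟨y, rfl⟩ := hx
    obtain ⟨n, hn, hy⟩ : ∃ n ∈ D.π.ker, (D.σ ^ q) y = y * n := by
      refine ⟨y⁻¹ * (D.σ ^ q) y, ?_, (mul_inv_cancel_left _ _).symm⟩
      rw [MonoidHom.mem_ker, map_mul, map_inv, inv_mul_eq_one]
      exact Multiplicative.toAdd.injective (by rw [toAdd_π_iterate, hq, one_mul])
    have hc := Subgroup.mem_center_iff.mp (D.central hn)
    show (D.σ ^ q) (y⁻¹ * D.σ y) = y⁻¹ * D.σ y
    rw [map_mul, map_inv, hy, ← MulAut.mul_apply, ← pow_succ, pow_succ', MulAut.mul_apply, hy,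
      map_mul, D.fix n hn, mul_inv_rev, mul_assoc, hc (D.σ y), ← mul_assoc y⁻¹, hc y⁻¹]
    simp [mul_assoc]
  | one => rw [map_one, MulAut.one_apply]
  | mul a b _ _ ha hb => rw [map_mul, ha, hb]; simp
  | inv a _ ha => rw [map_inv, ha]; simp

theorem σ_ne_one (hζ1 : ζ ≠ 1) : D.σ ≠ 1 := fun h => hζ1 (by
  obtain ⟨x, hx⟩ := D.surj (Multiplicative.ofAdd 1)
  have := D.equiv x
  rw [h, MulAut.one_apply, hx, toAdd_ofAdd, mul_one] at this
  exact this.symm)

/-- A subgroup invariant under `σ` which covers `K` is everything. -/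
theorem eq_top_of_invariant (T : Subgroup A) (hT : ∀ x ∈ T, D.σ x ∈ T)
    (hsurj : ∀ u : K, ∃ t ∈ T, (D.π t).toAdd = u) : T = ⊤ := by
  refine top_le_iff.mp ?_
  rw [← D.gen, Subgroup.closure_le]
  rintro _ ⟨y, rfl⟩
  obtain ⟨t, ht, hty⟩ := hsurj (D.π y).toAdd
  have hn : t⁻¹ * y ∈ D.π.ker := by
    rw [MonoidHom.mem_ker, map_mul, map_inv, inv_mul_eq_one]
    exact Multiplicative.toAdd.injective hty
  have hc := Subgroup.mem_center_iff.mp (D.central hn)
  generalize hgen : t⁻¹ * y = n at hn hc
  rw [inv_mul_eq_iff_eq_mul] at hgen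
  subst hgen
  show (t * n)⁻¹ * D.σ (t * n) ∈ T
  rw [map_mul, D.fix _ hn, show (t * n)⁻¹ * (D.σ t * n) = n⁻¹ * ((t⁻¹ * D.σ t) * n) by group,
    hc (t⁻¹ * D.σ t), inv_mul_cancel_left]
  exact T.mul_mem (T.inv_mem ht) (hT t ht)

theorem commutator_mem_ker (x y : A) : ⁅x, y⁆ ∈ D.π.ker := by
  rw [MonoidHom.mem_ker, map_commutatorElement, commutatorElement_eq_one_iff_mul_comm, mul_comm]

theorem ker_le_commutator [Finite A] : D.π.ker ≤ commutator A := by
  intro n hn
  let ab : A →* Abelianization A := Abelianization.of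
  let δ : A →* Abelianization A :=
    { toFun := fun x => (ab x)⁻¹ * ab (D.σ x)
      map_one' := by simp
      map_mul' := fun x y => by rw [map_mul, map_mul, map_mul, mul_inv]; ac_rfl }
  let δ' : Abelianization A →* Abelianization A := Abelianization.lift δ
  have hsurj : Function.Surjective δ' := by
    refine MonoidHom.range_eq_top.mp (top_le_iff.mp fun z _ => ?_)
    obtain ⟨x, rfl⟩ := QuotientGroup.mk_surjective z
    have hx : x ∈ Subgroup.closure (Set.range fun y : A => y⁻¹ * D.σ y) := D.gen ▸ Subgroup.mem_top x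
    have hle : Subgroup.closure (Set.range fun y : A => y⁻¹ * D.σ y) ≤ δ'.range.comap ab := by
      rw [Subgroup.closure_le]
      rintro _ ⟨y, rfl⟩
      exact ⟨ab y, by rw [Abelianization.lift_apply_of, map_mul, map_inv]; rfl⟩
    exact hle hx
  have hinj : Function.Injective δ' := Finite.injective_iff_surjective.mpr hsurj
  have h1 : δ' (ab n) = δ' 1 := by
    rw [Abelianization.lift_apply_of, map_one]
    show (ab n)⁻¹ * ab (D.σ n) = 1
    rw [D.fix n hn, inv_mul_cancel]
  exact (QuotientGroup.eq_one_iff n).mp (hinj h1)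

/-- The commutator form on `K`. -/
noncomputable def form (u v : K) : A :=
  ⁅Function.surjInv D.surj (Multiplicative.ofAdd u), Function.surjInv D.surj (Multiplicative.ofAdd v)⁆

theorem form_eq (x y : A) : ⁅x, y⁆ = D.form (D.π x).toAdd (D.π y).toAdd := by
  have key : ∀ a b c : A, D.π a = D.π b → ⁅a, c⁆ = ⁅b, c⁆ ∧ ⁅c, a⁆ = ⁅c, b⁆ := by
    intro a b c hab
    have hn : b⁻¹ * a ∈ D.π.ker := by
      rw [MonoidHom.mem_ker, map_mul, map_inv, inv_mul_eq_one, hab]
    have hc := Subgroup.mem_center_iff.mp (D.central hn)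
    obtain ⟨n, rfl⟩ : ∃ n, a = b * n := ⟨b⁻¹ * a, (mul_inv_cancel_left _ _).symm⟩
    rw [inv_mul_cancel_left] at hc
    constructor
    · simp only [commutatorElement_def, mul_inv_rev, mul_assoc]
      rw [← mul_assoc n, ← hc c, mul_assoc, mul_inv_cancel_left]
    · simp only [commutatorElement_def, mul_inv_rev, mul_assoc]
      rw [← mul_assoc n, ← hc c⁻¹, mul_assoc, mul_inv_cancel_left]
  unfold form
  rw [ofAdd_toAdd, ofAdd_toAdd, (key x _ y (Function.surjInv_eq D.surj (D.π x)).symm).1,
    (key y _ _ (Function.surjInv_eq D.surj (D.π y)).symm).2]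

theorem form_add_left (u u' v : K) : D.form (u + u') v = D.form u v * D.form u' v := by
  obtain ⟨x, hx⟩ := D.surj (Multiplicative.ofAdd u)
  obtain ⟨x', hx'⟩ := D.surj (Multiplicative.ofAdd u')
  obtain ⟨y, hy⟩ := D.surj (Multiplicative.ofAdd v)
  have e : D.form (u + u') v = ⁅x * x', y⁆ := by rw [D.form_eq, map_mul, hx, hx', hy]; rfl
  have e1 : D.form u v = ⁅x, y⁆ := by rw [D.form_eq, hx, hy]; rfl
  have e2 : D.form u' v = ⁅x', y⁆ := by rw [D.form_eq, hx', hy]; rfl
  rw [e, e1, e2]
  have hc := Subgroup.mem_center_iff.mp (D.central (D.commutator_mem_ker x' y))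
  have h3 : ⁅x * x', y⁆ = x * ⁅x', y⁆ * x⁻¹ * ⁅x, y⁆ := by simp only [commutatorElement_def]; group
  rw [h3, hc x, mul_assoc ⁅x', y⁆, mul_inv_cancel, mul_one, hc ⁅x, y⁆]

theorem form_swap (u v : K) : D.form v u = (D.form u v)⁻¹ := (commutatorElement_inv _ _).symm

theorem form_self (u : K) : D.form u u = 1 := commutatorElement_self _

theorem form_mem_ker (u v : K) : D.form u v ∈ D.π.ker := D.commutator_mem_ker _ _

theorem form_add_right (u v v' : K) : D.form u (v + v') = D.form u v * D.form u v' := by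
  rw [D.form_swap, D.form_add_left, mul_inv_rev, ← D.form_swap, ← D.form_swap]
  exact Subgroup.mem_center_iff.mp (D.central (D.form_mem_ker u v)) _

theorem form_zero_left (v : K) : D.form 0 v = 1 := by
  simpa using D.form_add_left 0 0 v

theorem form_zero_right (v : K) : D.form v 0 = 1 := by
  simpa using D.form_add_right v 0 0

theorem form_neg_left (u v : K) : D.form (-u) v = (D.form u v)⁻¹ :=
  eq_inv_of_mul_eq_one_left (by rw [← D.form_add_left, neg_add_cancel, D.form_zero_left])

theorem form_neg_right (u v : K) : D.form u (-v) = (D.form u v)⁻¹ :=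
  eq_inv_of_mul_eq_one_left (by rw [← D.form_add_right, neg_add_cancel, D.form_zero_right])

theorem form_zeta (u v : K) : D.form (ζ * u) (ζ * v) = D.form u v := by
  obtain ⟨x, hx⟩ := D.surj (Multiplicative.ofAdd u)
  obtain ⟨y, hy⟩ := D.surj (Multiplicative.ofAdd v)
  have e : D.form u v = ⁅x, y⁆ := by rw [D.form_eq, hx, hy]; rfl
  have e' : D.form (ζ * u) (ζ * v) = ⁅D.σ x, D.σ y⁆ := by
    rw [D.form_eq, D.equiv, D.equiv, hx, hy]; rfl
  rw [e', ← map_commutatorElement, D.fix _ (D.commutator_mem_ker x y), e]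

/-- Pairs of scalars adjoint with respect to the commutator form. -/
noncomputable def adj : Subring (K × K) where
  carrier := {w | ∀ u v, D.form (w.1 * u) v = D.form u (w.2 * v)}
  one_mem' := fun u v => by simp
  mul_mem' := fun {a b} ha hb u v => by
    show D.form (a.1 * b.1 * u) v = D.form u (a.2 * b.2 * v)
    rw [mul_assoc, ha, hb, ← mul_assoc, mul_comm b.2]
  add_mem' := fun {a b} ha hb u v => by
    show D.form ((a.1 + b.1) * u) v = D.form u ((a.2 + b.2) * v)
    rw [add_mul, add_mul, D.form_add_left, D.form_add_right, ha, hb]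
  zero_mem' := fun u v => by simp [form_zero_left, form_zero_right]
  neg_mem' := fun {a} ha u v => by
    show D.form (-a.1 * u) v = D.form u (-a.2 * v)
    rw [neg_mul, neg_mul, D.form_neg_left, D.form_neg_right, ha]

theorem zeta_mem_adj (h0 : ζ ≠ 0) : (ζ, ζ⁻¹) ∈ D.adj := fun u v => by
  show D.form (ζ * u) v = D.form u (ζ⁻¹ * v)
  rw [← D.form_zeta u (ζ⁻¹ * v), mul_inv_cancel_left₀ h0]

theorem ker_eq_bot_of_form_eq_one [Finite A] (h : ∀ u v, D.form u v = 1) : D.π.ker = ⊥ := by
  refine le_bot_iff.mp (D.ker_le_commutator.trans ?_)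
  rw [commutator_def, Subgroup.commutator_le]
  intro x _ y _
  rw [D.form_eq, h]
  exact one_mem _

theorem form_eq_one_of_adj {w : K} (hw : w ≠ 0) (h : ((0 : K), w) ∈ D.adj) (u v : K) :
    D.form u v = 1 := by
  have := h u (w⁻¹ * v)
  simpa [mul_inv_cancel_left₀ hw, form_zero_left] using this.symm

theorem card_eq : Nat.card A = Nat.card K * Nat.card D.π.ker := by
  rw [← D.π.ker.card_mul_index, Subgroup.index_ker, MonoidHom.range_eq_top.mpr D.surj,
    Subgroup.card_top, mul_comm]
  rfl

end Twist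

end Cfsg.Agent.SchmidtUniversal
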